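import Mathlib
import Cfsg.Agent.Base
import Cfsg.Agent.Lib.Char.DegreeP

/-! Schur's bound for the order of a `p`-group with a rational character. -/

set_option autoImplicit false
set_option linter.style.haveILetI false

namespace H35L
open Cfsg
open scoped ComplexConjugate

variable {G : Type*} [Group G]

theorem one_eq_of_charDegree {χ : G → ℂ} (hχ : IsCharacter G χ) {n : ℕ}
    (hn : charDegree χ = n) : χ 1 = n := by
  obtain ⟨m, hm⟩ := H6.char_one_nat hχ
  rw [← hn, charDegree, hm]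
  simp

/-- An integer value at a `p`-element is congruent to the degree. -/
theorem dvd_sub_of_int [Finite G] {χ : G → ℂ} (hχ : IsCharacter G χ) {p k : ℕ}
    (hp : p.Prime) {g : G} (hg : g ^ p ^ k = 1) {z : ℤ} (hz : χ g = z) {n : ℕ} (hn : χ 1 = n) :
    (p : ℤ) ∣ n - z := by
  obtain ⟨m, ω, hm, hω, hsum⟩ := H6.char_pow_eq_sum hχ (pow_ne_zero k hp.ne_zero) hg
  have hmn : m = n := by exact_mod_cast hm.symm.trans hn
  subst hmn
  obtain ⟨r, hr⟩ := H31.exists_sum_pow_prime_pow (R := integralClosure ℤ ℂ) hp k Finset.univ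
    (fun i => ⟨ω i, H8.isIntegral_of_pow_eq_one (pow_pos hp.pos k) (hω i)⟩)
  have h1 := congrArg Subtype.val hr
  have h2 := hsum 1
  simp only [pow_one] at h2
  push_cast at h1
  simp only [hω, Finset.sum_const, Finset.card_univ, Fintype.card_fin, nsmul_eq_mul, mul_one,
    ← h2, hz] at h1
  have hp0 : (p : ℂ) ≠ 0 := by exact_mod_cast hp.ne_zero
  have h3 : (p : ℤ) ∣ z ^ p ^ k - m := by
    have hi : IsIntegral ℤ ((((z ^ p ^ k - m : ℤ) : ℚ) / p : ℚ) : ℂ) := by
      have : ((((z ^ p ^ k - m : ℤ) : ℚ) / p : ℚ) : ℂ) = r := by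
        push_cast; field_simp; linear_combination h1
      rw [this]; exact r.2
    have hi2 : IsIntegral ℤ (((z ^ p ^ k - m : ℤ) : ℚ) / p : ℚ) :=
      (isIntegral_algebraMap_iff (algebraMap ℚ ℂ).injective).1 hi
    obtain ⟨y, hy⟩ := IsIntegrallyClosed.algebraMap_eq_of_integral hi2
    refine ⟨y, ?_⟩
    have hp1 : (p : ℚ) ≠ 0 := by exact_mod_cast hp.ne_zero
    rw [eq_div_iff hp1] at hy
    have : ((z ^ p ^ k - m : ℤ) : ℚ) = ((p * y : ℤ) : ℚ) := by
      rw [← hy]; simp [mul_comm]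
    exact_mod_cast this
  haveI := Fact.mk hp
  have h4 : (p : ℤ) ∣ z ^ p ^ k - z := by
    rw [← ZMod.intCast_zmod_eq_zero_iff_dvd]
    push_cast
    rw [ZMod.pow_card_pow, sub_self]
  have : (m : ℤ) - z = (z ^ p ^ k - z) - (z ^ p ^ k - m) := by ring
  rw [this]
  exact dvd_sub h4 h3

theorem re_sum_pow_nonneg {ω : ℂ} {N : ℕ} (h : ω ^ N = 1) :
    0 ≤ (∑ j ∈ Finset.range N, ω ^ j).re := by
  by_cases h1 : ω = 1
  · simp [h1]
  · rw [geom_sum_eq h1, h]; simp

/-- The values of a character that is rational at a `p`-element. -/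
theorem exists_val_of_rat [Finite G] {χ : G → ℂ} (hχ : IsCharacter G χ) {p k : ℕ}
    (hp : p.Prime) {x : G} (hx : x ^ p ^ k = 1)
    (hrat : ∀ j : ℕ, j.Coprime p → χ (x ^ j) = χ x) {n : ℕ} (hn : χ 1 = n) :
    ∃ j : ℕ, j ≤ n / (p - 1) ∧ χ x = n - p * j := by
  by_cases hx1 : x = 1
  · exact ⟨0, Nat.zero_le _, by simp [hx1, hn]⟩
  have hk : k ≠ 0 := by rintro rfl; exact hx1 (by simpa using hx)
  obtain ⟨k, rfl⟩ := Nat.exists_eq_succ_of_ne_zero hk
  obtain ⟨z, hz⟩ := H8.exists_int_of_forall_pow_eq (H6.char_isGen hχ) x (fun m hm => by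
    refine hrat m ?_
    obtain ⟨i, -, hi⟩ := (Nat.dvd_prime_pow hp).1 (orderOf_dvd_of_pow_eq_one hx)
    have hi0 : i ≠ 0 := by rintro rfl; exact hx1 (by simpa using hi)
    rw [hi] at hm
    exact (Nat.coprime_pow_right_iff (Nat.pos_of_ne_zero hi0) _ _).1 hm)
  obtain ⟨j, hj⟩ := dvd_sub_of_int hχ hp hx hz hn
  have hnorm : ∀ y, (χ y).re ≤ n := fun y => by
    have := H6.char_norm_le hχ y
    rw [hn, Complex.norm_natCast] at this
    exact (Complex.re_le_norm _).trans this
  have hzn : z ≤ n := by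
    have := hnorm x
    rw [hz] at this
    exact_mod_cast this
  have hj0 : 0 ≤ j := by
    have : (0 : ℤ) < p := by exact_mod_cast hp.pos
    by_contra h
    push Not at h
    nlinarith
  obtain ⟨j, rfl⟩ := Int.eq_ofNat_of_zero_le hj0
  refine ⟨j, ?_, ?_⟩
  · -- the averaging estimate
    obtain ⟨m, ω, hm, hω, hsum⟩ := H6.char_pow_eq_sum hχ (pow_ne_zero (k + 1) hp.ne_zero) hx
    have h0 : 0 ≤ (∑ i ∈ Finset.range (p ^ (k + 1)), χ (x ^ i)).re := by
      simp only [hsum]
      rw [Finset.sum_comm, Complex.re_sum]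
      exact Finset.sum_nonneg fun i _ => re_sum_pow_nonneg (hω i)
    rw [← Finset.sum_filter_add_sum_filter_not (Finset.range (p ^ (k + 1))) (fun i => p ∣ i),
      Complex.add_re, Complex.re_sum, Complex.re_sum] at h0
    have hc : ((Finset.range (p ^ (k + 1))).filter (fun i => p ∣ i)).card = p ^ k := by
      have h2 : (Finset.range (p ^ (k + 1))).filter (fun i => p ∣ i) =
          (Finset.range (p ^ k)).image (fun i => p * i) := by
        ext i
        simp only [Finset.mem_filter, Finset.mem_range, Finset.mem_image]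
        constructor
        · rintro ⟨h1, c, rfl⟩
          refine ⟨c, ?_, rfl⟩
          rw [pow_succ'] at h1
          exact Nat.lt_of_mul_lt_mul_left h1
        · rintro ⟨c, h1, rfl⟩
          refine ⟨?_, c, rfl⟩
          rw [pow_succ']
          exact Nat.mul_lt_mul_of_pos_left h1 hp.pos
      rw [h2, Finset.card_image_of_injective _ (mul_right_injective₀ hp.ne_zero),
        Finset.card_range]
    have hc' : ((Finset.range (p ^ (k + 1))).filter (fun i => ¬ p ∣ i)).card + p ^ k =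
        p ^ (k + 1) := by
      rw [← hc, add_comm, Finset.card_filter_add_card_filter_not, Finset.card_range]
    have h1 : ∑ i ∈ (Finset.range (p ^ (k + 1))).filter (fun i => p ∣ i), (χ (x ^ i)).re ≤
        p ^ k * n := by
      refine (Finset.sum_le_card_nsmul _ _ (n : ℝ) fun i _ => hnorm _).trans ?_
      rw [hc, nsmul_eq_mul]; push_cast; rfl
    have h2 : ∑ i ∈ (Finset.range (p ^ (k + 1))).filter (fun i => ¬ p ∣ i), (χ (x ^ i)).re =
        (p ^ (k + 1) - p ^ k) * z := by
      rw [Finset.sum_congr rfl (g := fun _ => (z : ℝ))]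
      · rw [Finset.sum_const, nsmul_eq_mul]
        congr 1
        have := congrArg (Nat.cast : ℕ → ℝ) hc'
        push_cast at this
        linarith
      · intro i hi
        rw [hrat i ((Nat.Prime.coprime_iff_not_dvd hp).2 (Finset.mem_filter.1 hi).2).symm, hz]
        simp
    have hpk : (0 : ℝ) < p ^ k := by have := hp.pos; positivity
    have h3 : (0 : ℝ) ≤ n + (p - 1) * z := by
      have : (0 : ℝ) ≤ p ^ k * (n + (p - 1) * z) := by
        rw [h2, pow_succ (p : ℝ)] at h0; nlinarith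
      by_contra hh; push Not at hh; nlinarith
    have h4 : (0 : ℤ) ≤ n + (p - 1) * z := by exact_mod_cast h3
    have h5 : ((p : ℤ) - 1) * j ≤ n := by
      have hz' : z = n - p * j := by linarith
      rw [hz'] at h4
      have : (0 : ℤ) < p := by exact_mod_cast hp.pos
      have h6 : (0 : ℤ) ≤ p * (n - (p - 1) * j) := by nlinarith
      by_contra hh; push Not at hh; nlinarith
    rw [Nat.le_div_iff_mul_le (by have := hp.two_le; omega)]
    have : ((j * (p - 1) : ℕ) : ℤ) ≤ n := by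
      rw [Nat.cast_mul, Nat.cast_sub hp.one_le]; push_cast; linarith
    exact_mod_cast this
  · rw [hz]
    have : z = n - p * j := by linarith
    rw [this]; push_cast; rfl

theorem factorization_bound {p : ℕ} (hp : p.Prime) (n : ℕ) :
    (p ^ (n / (p - 1)) * (n / (p - 1)).factorial).factorization p ≤
      ∑ i ∈ Finset.range (n + 1), n / ((p - 1) * p ^ i) := by
  set m := n / (p - 1) with hm
  have hmn : m ≤ n := Nat.div_le_self _ _
  rw [Nat.factorization_mul (pow_ne_zero _ hp.ne_zero) (Nat.factorial_ne_zero m),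
    Finsupp.add_apply, hp.factorization_pow, Finsupp.single_eq_same,
    Nat.factorization_factorial hp (b := n + 1)
      (lt_of_le_of_lt (Nat.log_le_self p m) (by omega)),
    Finset.sum_range_succ', Finset.sum_Ico_eq_sum_range]
  simp only [pow_zero, mul_one, Nat.add_sub_cancel, ← Nat.div_div_eq_div_mul, ← hm, add_comm 1]
  omega

/-- Schur's bound, for a character that need not be faithful. -/
theorem index_dvd_of_rat {P : Type*} [Group P] [Finite P] {p : ℕ} (hp : p.Prime)
    (hP : IsPGroup p P) {ψ : P → ℂ} (hψ : IsCharacter P ψ)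
    (hrat : ∀ (x : P) (j : ℕ), j.Coprime p → ψ (x ^ j) = ψ x) {n : ℕ} (hn : ψ 1 = n) :
    (H6.charKer ψ).index ∣ p ^ (n / (p - 1)) * (n / (p - 1)).factorial := by
  classical
  haveI := Fintype.ofFinite P
  set m := n / (p - 1) with hm
  let Ψ : P → ℂ := ∏ j ∈ Finset.range m, (ψ - ((n - p * (j + 1) : ℤ) : ℂ) • (fun _ => 1))
  have hΨ : IsGeneralizedCharacter P Ψ := by
    refine Subring.prod_mem (H6.genCharSubring P) fun j _ => ?_
    exact H6.isGen_sub (H6.char_isGen hψ) (H6.isGen_intCast_smul _ H6.isGen_one)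
  have hval : ∀ x, Ψ x = if x ∈ H6.charKer ψ then ((p ^ m * m.factorial : ℕ) : ℂ) else 0 := by
    intro x
    simp only [Ψ, Finset.prod_apply, Pi.sub_apply, Pi.smul_apply, smul_eq_mul, mul_one]
    split_ifs with hx
    · rw [H6.mem_charKer hψ, hn] at hx
      rw [hx, ← Finset.prod_range_add_one_eq_factorial]
      push_cast
      simp only [sub_sub_cancel, Finset.prod_mul_distrib, Finset.prod_const, Finset.card_range]
    · obtain ⟨k, hk⟩ := hP x
      obtain ⟨j, hj, hxj⟩ := exists_val_of_rat hψ hp hk (hrat x) hn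
      have hj0 : j ≠ 0 := by
        rintro rfl
        exact hx ((H6.mem_charKer hψ).2 (by rw [hxj, hn]; simp))
      obtain ⟨j, rfl⟩ := Nat.exists_eq_succ_of_ne_zero hj0
      refine Finset.prod_eq_zero (i := j) (Finset.mem_range.2 hj) ?_
      rw [hxj]; push_cast; ring
  obtain ⟨z, hz⟩ := H6.gen_inner_int hΨ H6.isGen_one
  rw [H6.classInner_one_right] at hz
  simp only [hval] at hz
  rw [← Finset.sum_filter, Finset.sum_const, nsmul_eq_mul] at hz
  have hc : ((Finset.univ.filter fun x => x ∈ H6.charKer ψ).card : ℕ) =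
      Nat.card (H6.charKer ψ) := by
    rw [Nat.card_eq_fintype_card, Fintype.card_subtype]
  rw [hc, ← (H6.charKer ψ).card_mul_index] at hz
  have h1 : (Nat.card (H6.charKer ψ) : ℂ) ≠ 0 := H6.card_ne_zero
  have h2 : ((H6.charKer ψ).index : ℂ) ≠ 0 := H7.index_ne_zero' _
  have h3 : ((p ^ m * m.factorial : ℕ) : ℂ) = (H6.charKer ψ).index * z := by
    push_cast at hz ⊢
    field_simp at hz
    linear_combination hz
  have h4 : ((p ^ m * m.factorial : ℕ) : ℤ) = (H6.charKer ψ).index * z := by exact_mod_cast h3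
  exact Int.natCast_dvd_natCast.1 ⟨z, h4⟩

theorem schur_bound {P : Type*} [Group P] [Finite P] {p : ℕ} (hp : p.Prime)
    (hP : IsPGroup p P) {ψ : P → ℂ} (hψ : IsCharacter P ψ)
    (hrat : ∀ (x : P) (j : ℕ), j.Coprime p → ψ (x ^ j) = ψ x) {n : ℕ} (hn : ψ 1 = n) :
    (H6.charKer ψ).index.factorization p ≤ ∑ i ∈ Finset.range (n + 1), n / ((p - 1) * p ^ i) :=
  ((Nat.factorization_le_iff_dvd Subgroup.index_ne_zero_of_finite
    (mul_ne_zero (pow_ne_zero _ hp.ne_zero) (Nat.factorial_ne_zero _))).2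
    (index_dvd_of_rat hp hP hψ hrat hn) p).trans (factorization_bound hp n)

theorem bound_mono (p : ℕ) {m n : ℕ} (h : m ≤ n) :
    ∑ i ∈ Finset.range (m + 1), m / ((p - 1) * p ^ i) ≤
      ∑ i ∈ Finset.range (n + 1), n / ((p - 1) * p ^ i) :=
  (Finset.sum_le_sum fun _ _ => Nat.div_le_div_right h).trans
    (Finset.sum_le_sum_of_subset (Finset.range_mono (by omega)))

/-- A `p`-rational character is rational on `p`-elements. -/
theorem rat_of_mem_adjoin {χ : G → ℂ} (hχ : IsCharacter G χ) {p r k : ℕ} (hp : p.Prime)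
    (hr : 0 < r) (hpr : ¬ p ∣ r) {x : G} (hx : x ^ p ^ k = 1)
    (h : χ x ∈ IntermediateField.adjoin ℚ ({Complex.exp (2 * Real.pi * Complex.I / r)} : Set ℂ))
    {j : ℕ} (hj : j.Coprime p) : χ (x ^ j) = χ x := by
  have hcop : (p ^ k).Coprime r := ((Nat.Prime.coprime_iff_not_dvd hp).2 hpr).pow_left k
  obtain ⟨m, hm1, hm2⟩ := Nat.chineseRemainder hcop j 1
  have hm : m.Coprime (p ^ k * r) :=
    Nat.Coprime.mul_right (hm1.gcd_eq.trans (hj.pow_right k)) (hm2.gcd_eq.trans (by simp))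
  have hpos : 0 < p ^ k * r := Nat.mul_pos (pow_pos hp.pos k) hr
  obtain ⟨σ, hσ⟩ := H8.exists_ringEquiv_pow hpos hm
  have h1 := H8.IsCharacter_map_eq_pow hχ (σ : ℂ →+* ℂ) hpos hσ (g := x)
    (by rw [pow_mul, hx, one_pow])
  have h2 : x ^ m = x ^ j :=
    (pow_eq_pow_iff_modEq (x := x)).2 (hm1.of_dvd (orderOf_dvd_of_pow_eq_one hx))
  rw [← h2, ← h1]
  set ζ := Complex.exp (2 * Real.pi * Complex.I / r) with hζ
  have hζr : ζ ^ r = 1 := (Complex.isPrimitiveRoot_exp r hr.ne').pow_eq_one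
  have hζσ : σ ζ = ζ := by
    rw [hσ ζ (by rw [mul_comm, pow_mul, hζr, one_pow]),
      pow_eq_pow_of_modEq hm2 hζr, pow_one]
  change σ (χ x) = χ x
  refine IntermediateField.adjoin_induction ℚ (p := fun y _ => σ y = y) ?_ ?_ ?_ ?_ ?_ h
  · rintro y rfl; exact hζσ
  · intro q; simp
  · intro a b _ _ ha hb; rw [map_add, ha, hb]
  · intro a _ ha; rw [map_inv₀, ha]
  · intro a b _ _ ha hb; rw [map_mul, ha, hb]

end H35L
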