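import Mathlib
import Cfsg.Agent.Base
import Cfsg.Agent.Lib.Lin35.Schur
import Cfsg.Agent.Lib.FGS.ClassSize

/-! `p`-closed groups, elementwise. -/

set_option autoImplicit false
set_option linter.style.haveILetI false

namespace H35L
open Cfsg
open scoped commutatorElement

variable {G : Type*} [Group G] {p : ℕ}

/-- `x` is a `p`-element -/
def PE (p : ℕ) (x : G) : Prop := ∃ k, x ^ p ^ k = 1

/-- products of `p`-elements are `p`-elements -/
def PCl (p : ℕ) (G : Type*) [Group G] : Prop := ∀ x y : G, PE p x → PE p y → PE p (x * y)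

theorem PE.one : PE p (1 : G) := ⟨0, one_pow _⟩

theorem PE.inv {x : G} (h : PE p x) : PE p x⁻¹ := h.imp fun k hk => by rw [inv_pow, hk, inv_one]

theorem PE.map {K : Type*} [Group K] (f : G →* K) {x : G} (h : PE p x) : PE p (f x) :=
  h.imp fun k hk => by rw [← map_pow, hk, map_one]

theorem PE.conj {x : G} (h : PE p x) (g : G) : PE p (g * x * g⁻¹) :=
  h.map (MulAut.conj g).toMonoidHom

theorem PE.pow {x : G} (h : PE p x) (n : ℕ) : PE p (x ^ n) :=
  h.imp fun k hk => by rw [← pow_mul, mul_comm, pow_mul, hk, one_pow]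

theorem PE.of_injective {K : Type*} [Group K] {f : G →* K} (hf : Function.Injective f) {x : G}
    (h : PE p (f x)) : PE p x :=
  h.imp fun k hk => hf (by rw [map_pow, hk, map_one])

theorem pe_coe {H : Subgroup G} {x : H} : PE p (x : G) ↔ PE p x :=
  ⟨PE.of_injective H.subtype_injective, PE.map H.subtype⟩

theorem PE.of_mem {P : Subgroup G} (hP : IsPGroup p P) {x : G} (hx : x ∈ P) : PE p x :=
  pe_coe.2 (hP ⟨x, hx⟩)

theorem PE.isPGroup {x : G} (h : PE p x) : IsPGroup p (Subgroup.zpowers x) := by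
  rintro ⟨_, i, rfl⟩
  obtain ⟨k, hk⟩ := h
  refine ⟨k, Subtype.ext ?_⟩
  simp only [SubgroupClass.coe_pow, OneMemClass.coe_one]
  rw [← zpow_natCast, ← zpow_mul, mul_comm, zpow_mul, zpow_natCast, hk, one_zpow]

theorem PE.mul_of_commute {x y : G} (hx : PE p x) (hy : PE p y) (h : Commute x y) :
    PE p (x * y) := by
  obtain ⟨k, hk⟩ := hx
  obtain ⟨l, hl⟩ := hy
  refine ⟨k + l, ?_⟩
  rw [h.mul_pow, pow_add, pow_mul, hk, one_pow, mul_comm (p ^ k), pow_mul, hl, one_pow, mul_one]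

theorem PE.eq_one_of_coprime {x : G} (h : PE p x) {n : ℕ} (hn : n.Coprime p) (hx : x ^ n = 1) :
    x = 1 := by
  obtain ⟨k, hk⟩ := h
  rw [← orderOf_eq_one_iff]
  exact Nat.eq_one_of_dvd_coprimes (hn.pow_right k) (orderOf_dvd_of_pow_eq_one hx)
    (orderOf_dvd_of_pow_eq_one hk)

theorem PE.eq_one_of_mem {x : G} (h : PE p x) {H : Subgroup G} (hH : (Nat.card H).Coprime p)
    (hx : x ∈ H) : x = 1 :=
  h.eq_one_of_coprime hH (orderOf_dvd_iff_pow_eq_one.1 (H.orderOf_dvd_natCard hx))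

theorem PE.mem_of_index {x : G} (h : PE p x) {M : Subgroup G} [M.Normal]
    (hM : M.index.Coprime p) : x ∈ M := by
  rw [← QuotientGroup.eq_one_iff]
  exact (h.map (QuotientGroup.mk' M)).eq_one_of_coprime hM pow_card_eq_one'

theorem PE.pow_eq_one [Finite G] (hp : p.Prime) {x : G} (h : PE p x) {N : ℕ} (hN : N ≠ 0)
    (hd : Nat.card G ∣ N) : x ^ p ^ N.factorization p = 1 := by
  obtain ⟨k, hk⟩ := h
  obtain ⟨i, -, hi⟩ := (Nat.dvd_prime_pow hp).1 (orderOf_dvd_of_pow_eq_one hk)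
  refine orderOf_dvd_iff_pow_eq_one.1 (hi ▸ pow_dvd_pow _ ?_)
  exact (hp.pow_dvd_iff_le_factorization hN).1 (hi ▸ (orderOf_dvd_natCard x).trans hd)

theorem PE.exists_sylow {x : G} (h : PE p x) : ∃ Q : Sylow p G, x ∈ Q :=
  h.isPGroup.exists_le_sylow.imp fun _ hQ => hQ (Subgroup.mem_zpowers x)

theorem PCl.of_injective {K : Type*} [Group K] (h : PCl p G) (f : K →* G)
    (hf : Function.Injective f) : PCl p K := fun x y hx hy =>
  PE.of_injective hf (map_mul f x y ▸ h _ _ (hx.map f) (hy.map f))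

theorem PCl.subgroup (h : PCl p G) (H : Subgroup G) : PCl p H :=
  h.of_injective _ H.subtype_injective

theorem PCl.mul {H : Subgroup G} (h : PCl p H) {x y : G} (hx : x ∈ H) (hy : y ∈ H) (h1 : PE p x)
    (h2 : PE p y) : PE p (x * y) :=
  pe_coe.2 (h ⟨x, hx⟩ ⟨y, hy⟩ (pe_coe.1 h1) (pe_coe.1 h2))

theorem pcl_of_comm (h : ∀ a b : G, a * b = b * a) : PCl p G := fun x y hx hy =>
  hx.mul_of_commute hy (h x y)

theorem pcl_of_isPGroup (h : IsPGroup p G) : PCl p G := fun _ _ _ _ => h _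

theorem pcl_of_index {M : Subgroup G} [M.Normal] (hM : M.index.Coprime p) (h : PCl p M) :
    PCl p G := fun _ _ hx hy => h.mul (hx.mem_of_index hM) (hy.mem_of_index hM) hx hy

/-- The `p`-elements of a `p`-closed subgroup. -/
def PCl.sub {H : Subgroup G} (h : PCl p H) : Subgroup G where
  carrier := {x | x ∈ H ∧ PE p x}
  one_mem' := ⟨one_mem _, PE.one⟩
  mul_mem' ha hb := ⟨mul_mem ha.1 hb.1, h.mul ha.1 hb.1 ha.2 hb.2⟩
  inv_mem' ha := ⟨inv_mem ha.1, ha.2.inv⟩

theorem PCl.isPGroup_sub {H : Subgroup G} (h : PCl p H) : IsPGroup p h.sub :=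
  fun x => pe_coe.1 x.2.2

instance PCl.sub_normal {H : Subgroup G} [hH : H.Normal] (h : PCl p H) : h.sub.Normal :=
  ⟨fun x hx g => ⟨hH.conj_mem x hx.1 g, hx.2.conj g⟩⟩

theorem PCl.normal (h : PCl p G) (P : Sylow p G) : (P : Subgroup G).Normal := by
  have h' := h.subgroup ⊤
  have : h'.sub = P := P.is_maximal' h'.isPGroup_sub fun x hx =>
    ⟨trivial, PE.of_mem P.isPGroup' hx⟩
  rw [← this]; infer_instance

theorem PE.mem_of_normal [Finite G] [Fact p.Prime] {x : G} (h : PE p x) (P : Sylow p G)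
    [(P : Subgroup G).Normal] : x ∈ (P : Subgroup G) :=
  h.mem_of_index ((Nat.Prime.coprime_iff_not_dvd Fact.out).2 P.not_dvd_index).symm

theorem pcl_of_normal [Finite G] [Fact p.Prime] (P : Sylow p G) [(P : Subgroup G).Normal] :
    PCl p G := fun _ _ hx hy =>
  PE.of_mem P.isPGroup' (mul_mem (hx.mem_of_normal P) (hy.mem_of_normal P))

theorem apply_eq_of_constituents [Fintype G] {χ : G → ℂ} (h : IsCharacter G χ) {x : G}
    (hc : ∀ ψ, IsIrrCharacter G ψ → classInner χ ψ ≠ 0 → ψ x = ψ 1) : χ x = χ 1 := by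
  rw [H6.classFun_eq_sum_irr (H6.char_isClassFunction h)]
  simp only [Finset.sum_apply, Pi.smul_apply, smul_eq_mul]
  refine Finset.sum_congr rfl fun ψ _ => ?_
  by_cases h0 : classInner χ ψ = 0
  · rw [h0, zero_mul, zero_mul]
  · rw [hc ψ ψ.2 h0]

theorem pcl_of_constituents [Fintype G] (hp : p.Prime) {χ : G → ℂ} (h : IsCharacter G χ)
    (hf : ∀ g, χ g = χ 1 → g = 1)
    (hc : ∀ ψ, IsIrrCharacter G ψ → classInner χ ψ ≠ 0 → PCl p (G ⧸ H6.charKer ψ)) :
    PCl p G := fun x y hx hy => by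
  refine ⟨(Nat.card G).factorization p, hf _ (apply_eq_of_constituents h fun ψ hψ hne => ?_)⟩
  rw [← H6.mem_charKer (H6.irr_isCharacter hψ), ← QuotientGroup.eq_one_iff]
  have := hc ψ hψ hne _ _ (hx.map (QuotientGroup.mk' _)) (hy.map (QuotientGroup.mk' _))
  exact this.pow_eq_one hp Nat.card_pos.ne' (Subgroup.card_quotient_dvd_card _)

/-- In a `p`-closed group a `p`-element centralizes every `p'`-subgroup it normalizes. -/
theorem PCl.comm_of_normalizes {H K : Subgroup G} (h : PCl p H) (hK : (Nat.card K).Coprime p)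
    (hKH : K ≤ H) {x : G} (hx : x ∈ H) (hx' : PE p x) (hn : x ∈ Subgroup.normalizer (K : Set G))
    {k : G} (hk : k ∈ K) : k * x = x * k := by
  have h1 : PE p (k * x * k⁻¹ * x⁻¹) :=
    h.mul (mul_mem (mul_mem (hKH hk) hx) (inv_mem (hKH hk))) (inv_mem hx) (hx'.conj k) hx'.inv
  have h2 : k * x * k⁻¹ * x⁻¹ ∈ K := by
    rw [mul_assoc, mul_assoc, ← mul_assoc x]
    exact mul_mem hk ((Subgroup.mem_normalizer_iff.1 hn _).1 (inv_mem hk))
  exact commutatorElement_eq_one_iff_mul_comm.1 (h1.eq_one_of_mem hK h2)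

theorem card_modEq_inf_centralizer [Finite G] [Fact p.Prime] (L P : Subgroup G) [L.Normal]
    (hP : IsPGroup p P) :
    Nat.card L ≡ Nat.card (L ⊓ Subgroup.centralizer (P : Set G) : Subgroup G) [MOD p] := by
  letI : MulAction P L := MulAction.compHom L ((MulAut.conjNormal : G →* MulAut L).comp P.subtype)
  suffices h : Nat.card (MulAction.fixedPoints P L) =
      Nat.card (L ⊓ Subgroup.centralizer (P : Set G) : Subgroup G) from
    h ▸ hP.card_modEq_card_fixedPoints L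
  refine Nat.card_congr ⟨fun x => ⟨x.1, x.1.2, fun g hg => ?_⟩,
    fun x => ⟨⟨x.1, x.2.1⟩, fun g => Subtype.ext ?_⟩, fun _ => rfl, fun _ => rfl⟩
  · have : g * x.1 * g⁻¹ = x.1 := congrArg Subtype.val (x.2 ⟨g, hg⟩)
    exact mul_inv_eq_iff_eq_mul.1 this
  · exact mul_inv_eq_iff_eq_mul.2 (x.2.2 g g.2)

/-- The elements of `L` centralized by `P` modulo `K`. -/
def fixMod (K L P : Subgroup G) [K.Normal] : Subgroup G :=
  L ⊓ (Subgroup.centralizer ((P.map (QuotientGroup.mk' K) : Subgroup (G ⧸ K)) : Set (G ⧸ K))).comap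
    (QuotientGroup.mk' K)

theorem mem_fixMod {K L P : Subgroup G} [K.Normal] {x : G} :
    x ∈ fixMod K L P ↔ x ∈ L ∧ ∀ g ∈ P, ⁅g, x⁆ ∈ K := by
  refine and_congr Iff.rfl ⟨fun h g hg => ?_, fun h => ?_⟩
  · rw [← QuotientGroup.eq_one_iff]
    change QuotientGroup.mk' K _ = 1
    rw [map_commutatorElement, commutatorElement_eq_one_iff_mul_comm]
    exact h _ ⟨g, hg, rfl⟩
  · rintro _ ⟨g, hg, rfl⟩
    rw [← commutatorElement_eq_one_iff_mul_comm, ← map_commutatorElement]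
    exact (QuotientGroup.eq_one_iff _).2 (h g hg)

theorem relIndex_modEq [Finite G] [Fact p.Prime] (K L P : Subgroup G) [K.Normal] [L.Normal]
    (hP : IsPGroup p P) : K.relIndex L ≡ K.relIndex (fixMod K L P) [MOD p] := by
  have h1 : ∀ X : Subgroup G, K.relIndex X = Nat.card (X.map (QuotientGroup.mk' K)) := fun X => by
    rw [← Subgroup.relIndex_ker, QuotientGroup.ker_mk']
  haveI := Subgroup.Normal.map ‹L.Normal› _ (QuotientGroup.mk'_surjective K)
  have h2 : ∀ X : Subgroup (G ⧸ K), (L ⊓ X.comap (QuotientGroup.mk' K)).map (QuotientGroup.mk' K) =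
      L.map (QuotientGroup.mk' K) ⊓ X := fun X => by
    ext q
    constructor
    · rintro ⟨x, hx, rfl⟩; exact ⟨⟨x, hx.1, rfl⟩, hx.2⟩
    · rintro ⟨⟨x, hx, rfl⟩, h⟩; exact ⟨x, ⟨hx, h⟩, rfl⟩
  rw [h1, h1, fixMod, h2]
  exact card_modEq_inf_centralizer _ _ (hP.map _)

theorem index_eq_relIndex_of_sup {U L : Subgroup G} [L.Normal] (h : U ⊔ L = ⊤) :
    U.index = U.relIndex L := by
  refine (H80.relIndex_eq_index_of_forall_mul fun g => ?_).symm
  rw [sup_comm] at h
  obtain ⟨y, hy, z, hz, e⟩ := Subgroup.mem_sup_of_normal_left.1 (h ▸ Subgroup.mem_top g)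
  exact ⟨y, hy, z, hz, e.symm⟩

end H35L
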