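import Mathlib
import Cfsg.Agent.Base
import Cfsg.Agent.Lib.Lin35.PCl
import Cfsg.Agent.Lib.Char.ExtDeg
import Cfsg.Agent.Lib.Transfer.NormalComplement

/-! Winter's theorem on solvable linear groups. -/

set_option autoImplicit false
set_option linter.style.haveILetI false

namespace H35L
open Cfsg
open scoped commutatorElement

universe u

variable {G : Type*} [Group G] {p : ℕ}

def WinterQ (p n : ℕ) : Prop := ∃ q : ℕ, IsPrimePow q ∧ q ∣ n ∧
  ((q : ℤ) ≡ -1 [ZMOD p] ∨ (q : ℤ) ≡ 0 [ZMOD p] ∨ (q : ℤ) ≡ 1 [ZMOD p])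

theorem WinterQ.mono {m n : ℕ} (h : WinterQ p m) (hmn : m ∣ n) : WinterQ p n :=
  h.imp fun _ hq => ⟨hq.1, hq.2.1.trans hmn, hq.2.2⟩

theorem isPrimePow_of_dvd {r j e : ℕ} (hr : r.Prime) (h : e ∣ r ^ j) (h1 : e ≠ 1) :
    IsPrimePow e := by
  obtain ⟨i, -, rfl⟩ := (Nat.dvd_prime_pow hr).1 h
  exact hr.isPrimePow.pow (by rintro rfl; exact h1 (pow_zero r))

theorem deg_dvd_of_constituent [Finite G] {M : Subgroup G} [M.Normal] [Fintype M] {χ : G → ℂ}
    (hχ : IsIrrCharacter G χ) {θ : M → ℂ} (hθ : IsIrrCharacter M θ)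
    (h : classInner (fun x : M => χ x) θ ≠ 0) {n m : ℕ} (hn : χ 1 = n) (hm : θ 1 = m) : m ∣ n := by
  obtain ⟨k, hk, -⟩ := H31.degree_ratio_dvd M hχ hθ h hn hm
  exact ⟨k, by rw [hk, mul_comm]⟩

theorem mem_center_of_norm_eq [Finite G] {χ : G → ℂ} (hχ : IsCharacter G χ)
    (hf : ∀ g, χ g = χ 1 → g = 1) {z : G} (hz : ‖χ z‖ = ‖χ 1‖) : z ∈ Subgroup.center G :=
  Subgroup.mem_center_iff.2 fun g => (commutatorElement_eq_one_iff_mul_comm.1
    (hf _ (H31.char_commutator_of_norm_eq hχ hz g))).symm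

theorem comm_of_linear_constituents [Fintype G] {χ : G → ℂ} (hχ : IsCharacter G χ)
    (hf : ∀ g, χ g = χ 1 → g = 1)
    (hc : ∀ ψ, IsIrrCharacter G ψ → classInner χ ψ ≠ 0 → ψ 1 = 1) (a b : G) : a * b = b * a :=
  commutatorElement_eq_one_iff_mul_comm.1 (hf _ (H6.char_commutator_of_constituents hχ hc
    (Subgroup.commutator_mem_commutator (Subgroup.mem_top a) (Subgroup.mem_top b))))

/-- The imprimitive case: a proper subgroup of index prime to `p`. -/
theorem winterQ_of_index [Finite G] [Group.IsSolvable G] [hp : Fact p.Prime]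
    (hO : ∀ M : Subgroup G, M.Normal → ¬ p ∣ M.index → M = ⊤) {H : Subgroup G} (hH : H ≠ ⊤)
    (hi : ¬ p ∣ H.index) : WinterQ p H.index := by
  obtain ⟨U, hU, hHU⟩ := (eq_top_or_exists_le_coatom H).resolve_left hH
  have hd := Subgroup.index_dvd_of_le hHU
  refine WinterQ.mono ?_ hd
  have hiU : ¬ p ∣ U.index := fun h => hi (h.trans hd)
  have hK : U.normalCore < ⊤ := lt_of_le_of_lt U.normalCore_le hU.1.lt_top
  obtain ⟨L, hL, -⟩ := H31.exists_chief_above hK
  haveI := hL.normalK
  have hab := hL.commutator_le (H31.solvOver_of_isSolvable _)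
  have hLU : ¬ L ≤ U := fun h => hL.lt.not_ge (Subgroup.normal_le_normalCore.2 h)
  have hsup : U ⊔ L = ⊤ := hU.2 _ (left_lt_sup.2 hLU)
  have hinf : U ⊓ L = U.normalCore := by
    refine le_antisymm ?_ (le_inf U.normalCore_le hL.lt.le)
    haveI : (U ⊓ L).Normal := by
      rw [← Subgroup.normalizer_eq_top_iff, eq_top_iff, ← hsup]
      refine sup_le (fun g hg => Subgroup.mem_normalizer_fintype fun x hx =>
        ⟨U.mul_mem (U.mul_mem hg hx.1) (U.inv_mem hg), hL.normalK.conj_mem x hx.2 g⟩)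
        (H31.normal_of_commutator_le hab (le_inf U.normalCore_le hL.lt.le) inf_le_right)
    exact Subgroup.normal_le_normalCore.2 inf_le_left
  have hq : U.index = U.normalCore.relIndex L := by
    rw [index_eq_relIndex_of_sup hsup, ← hinf, Subgroup.inf_relIndex_right]
  obtain ⟨r, hr, hrp⟩ := hL.exists_prime hab
  obtain ⟨a, ha⟩ := H31.relIndex_eq_pow_of_pow_mem hr hrp
  obtain ⟨P⟩ : Nonempty (Sylow p G) := inferInstance
  have hm := relIndex_modEq U.normalCore L P P.isPGroup'
  set C := fixMod U.normalCore L P with hC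
  have hKC : U.normalCore ≤ C := fun x hx => mem_fixMod.2 ⟨hL.lt.le hx, fun g _ =>
    mul_mem (Subgroup.Normal.conj_mem inferInstance x hx g) (inv_mem hx)⟩
  have hmul := Subgroup.relIndex_mul_relIndex U.normalCore C L hKC inf_le_left
  have hne : C.relIndex L ≠ 1 := by
    rw [Ne, Subgroup.relIndex_eq_one]
    intro hLC
    haveI := Subgroup.Normal.map hL.normalK _ (QuotientGroup.mk'_surjective U.normalCore)
    have h1 : fixMod U.normalCore ⊤ L = ⊤ := by
      refine hO _ (by unfold fixMod; infer_instance) fun h => P.not_dvd_index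
        (h.trans (Subgroup.index_dvd_of_le fun g hg => mem_fixMod.2 ⟨trivial, fun x hx => ?_⟩))
      rw [← commutatorElement_inv]
      exact inv_mem ((mem_fixMod.1 (hLC hx)).2 g hg)
    refine hU.1 (hO U ?_ hiU)
    rw [← Subgroup.normalizer_eq_top_iff, eq_top_iff, ← hsup]
    refine sup_le Subgroup.le_normalizer fun g hg => Subgroup.mem_normalizer_fintype fun x hx => ?_
    have := U.normalCore_le ((mem_fixMod.1 (h1 ▸ Subgroup.mem_top x)).2 g hg)
    rw [commutatorElement_def] at this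
    simpa using mul_mem this hx
  refine ⟨C.relIndex L, isPrimePow_of_dvd hr (j := a) ⟨_, by rw [← ha, ← hmul, mul_comm]⟩ hne,
    ⟨_, by rw [hq, ← hmul, mul_comm]⟩, Or.inr (Or.inr ?_)⟩
  rw [← hmul] at hm
  have hc : Nat.gcd p (U.normalCore.relIndex C) = 1 :=
    (Nat.Prime.coprime_iff_not_dvd hp.out).2 fun h => hiU (by rw [hq, ← hmul]; exact h.mul_right _)
  have := Nat.ModEq.cancel_left_of_coprime hc (hm.trans (by rw [mul_one]) :
    _ ≡ U.normalCore.relIndex C * 1 [MOD p])
  exact_mod_cast Int.natCast_modEq_iff.2 this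

theorem winter_aux [hp : Fact p.Prime] (N : ℕ) : ∀ (G : Type u) [Group G] [Finite G],
    Nat.card G = N → Group.IsSolvable G → ∀ χ : G → ℂ, IsIrrCharacter G χ →
      (∀ g, χ g = χ 1 → g = 1) → ∀ n : ℕ, χ 1 = n → ¬ WinterQ p n → PCl p G := by
  induction N using Nat.strong_induction_on with
  | _ N ih =>
  intro G _ _ hN hs χ hχ hf n hn hW
  classical
  haveI := Fintype.ofFinite G
  have hχc := H6.irr_isCharacter hχ
  have hlt : ∀ H : Subgroup G, H ≠ ⊤ → Nat.card H < N := fun H hH => by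
    rw [← hN]
    exact lt_of_le_of_ne (Subgroup.card_le_card_group H) fun h => hH (H.eq_top_of_card_eq h)
  have hA1 : ∀ M : Subgroup G, M.Normal → M ≠ ⊤ → PCl p M := fun M hM hM' => by
    refine pcl_of_constituents hp.out (H6.isCharacter_restrict M hχc)
      (fun g hg => Subtype.ext (hf _ hg)) fun θ hθ hne => ?_
    have hθc := H6.irr_isCharacter hθ
    obtain ⟨m, hm⟩ := H6.char_one_nat hθc
    obtain ⟨φ, hφ, hφθ⟩ := H6.exists_irr_quotient hθ (H6.charKer θ)
      fun x hx => (H6.mem_charKer hθc).1 hx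
    have hφ1 : φ 1 = θ 1 := hφθ 1
    refine ih _ (lt_of_le_of_lt (Nat.le_of_dvd Nat.card_pos (Subgroup.card_quotient_dvd_card _))
      (hlt M hM')) (M ⧸ H6.charKer θ) rfl inferInstance φ hφ (fun g hg => ?_) m (hφ1.trans hm)
      fun h => hW (h.mono (deg_dvd_of_constituent hχ hθ hne hn hm))
    obtain ⟨g, rfl⟩ := QuotientGroup.mk_surjective g
    rw [hφθ, hφ1] at hg
    exact (QuotientGroup.eq_one_iff g).2 ((H6.mem_charKer hθc).2 hg)
  by_contra hG
  have hpn : ¬ p ∣ n := fun h => hW ⟨p, hp.out.isPrimePow, h, Or.inr (Or.inl (by simp [Int.ModEq]))⟩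
  have hO : ∀ M : Subgroup G, M.Normal → ¬ p ∣ M.index → M = ⊤ := fun M hM h => by
    by_contra hM'
    exact hG (pcl_of_index ((Nat.Prime.coprime_iff_not_dvd hp.out).2 h).symm (hA1 M hM hM'))
  by_cases hprim : H31.Prim ⊥ χ
  swap
  · simp only [H31.Prim, not_forall, not_not] at hprim
    obtain ⟨H, -, hH, ψ, hψ, e⟩ := hprim
    obtain ⟨m, hm⟩ := H6.char_one_nat hψ
    have h1 := H7.indFun_one H ψ
    rw [e, hn, hm] at h1
    have h2 : H.index ∣ n := ⟨m, by exact_mod_cast h1⟩
    exact hW ((winterQ_of_index hO hH fun h => hpn (h.trans h2)).mono h2)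
  have hq := hprim.qprim hχ
  obtain ⟨P⟩ : Nonempty (Sylow p G) := inferInstance
  have hOP : ∀ M : Subgroup G, M.Normal → (P : Subgroup G) ≤ M → M = ⊤ := fun M hM h =>
    hO M hM fun h' => P.not_dvd_index (h'.trans (Subgroup.index_dvd_of_le h))
  haveI : Nontrivial G := by
    by_contra h
    rw [not_nontrivial_iff_subsingleton] at h
    exact hG (pcl_of_comm fun _ _ => Subsingleton.elim _ _)
  have hcomm : p ∣ (commutator G).index := by
    by_contra h
    exact (Group.IsSolvable.commutator_lt_top_of_nontrivial G).ne (hO _ inferInstance h)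
  obtain ⟨K, hKn, hK, j, hj⟩ := H31.exists_normal_pow_index hp.out hcomm
  have hKc := hA1 K hKn hK
  have hQ : hKc.sub ≤ Subgroup.center G := by
    have hQc : ∀ a b : hKc.sub, a * b = b * a := by
      refine comm_of_linear_constituents (H6.isCharacter_restrict _ hχc)
        (fun g hg => Subtype.ext (hf _ hg)) fun θ hθ hne => ?_
      obtain ⟨m, -, hm, hmd⟩ := H6.irr_one_dvd_card hθ
      obtain ⟨b, hb⟩ := hKc.isPGroup_sub.exists_card_eq
      have h1 := deg_dvd_of_constituent hχ hθ hne hn hm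
      rw [hm, Nat.eq_one_of_dvd_coprimes
        (((Nat.Prime.coprime_iff_not_dvd hp.out).2 hpn).pow_left b) (hb ▸ hmd) h1, Nat.cast_one]
    exact fun a ha => mem_center_of_norm_eq hχc hf
      (H31.norm_eq_of_homog_of_comm hQc (hq _ inferInstance bot_le) ha)
  have hnpc : HasNormalPComplement p G := by
    rw [H4.hasNormalPComplement_iff_of_pResidual_le (K := K)
      (H4.pResidual_le_of_index_dvd_pow hj.dvd)]
    obtain ⟨Q⟩ : Nonempty (Sylow p K) := inferInstance
    refine H4.hasNormalPComplement_of_normalizer_le_centralizer Q fun g _ x hx => ?_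
    exact Subtype.ext (Subgroup.mem_center_iff.1
      (hQ ⟨x.2, pe_coe.2 (PE.of_mem Q.isPGroup' hx)⟩) g).symm
  obtain ⟨H, hHn, hHp, k, hk⟩ := H4.hasNormalPComplement_iff_exists.1 hnpc
  have hHc : (Nat.card H).Coprime p := ((Nat.Prime.coprime_iff_not_dvd hp.out).2 hHp).symm
  have hH : ⊥ < H := by
    rw [bot_lt_iff_ne_bot]
    rintro rfl
    rw [Subgroup.index_bot] at hk
    exact hG (pcl_of_isPGroup (IsPGroup.of_card hk))
  obtain ⟨L, hL, -⟩ := H31.exists_chief_below hH
  haveI := hL.normalL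
  have hab := hL.commutator_le (H31.solvOver_of_isSolvable _)
  have hχH := H31.isIrr_res_of_coprime H hχ hn
    (hk ▸ ((Nat.Prime.coprime_iff_not_dvd hp.out).2 hpn).symm.pow_right k)
  have hne1 : L.relIndex H ≠ 1 := fun h => hL.lt.not_ge (Subgroup.relIndex_eq_one.1 h)
  have hLP : L ⊔ P ≠ ⊤ := fun h => by
    obtain ⟨b, hb⟩ := P.isPGroup'.exists_card_eq
    have h1 : L.relIndex H ∣ p ^ b := by
      refine (Subgroup.relIndex_dvd_index_of_le hL.lt.le).trans ?_
      rw [← Subgroup.relIndex_top_right, ← h, Subgroup.relIndex_sup_left, ← hb]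
      exact Subgroup.relIndex_dvd_card _ _
    exact hne1 (Nat.eq_one_of_dvd_coprimes (hHc.pow_right b) (Subgroup.relIndex_dvd_card _ _) h1)
  have hHP : H ⊔ P = ⊤ := by
    rw [← Subgroup.index_eq_one]
    exact Nat.eq_one_of_dvd_coprimes
      (((Nat.Prime.coprime_iff_not_dvd hp.out).2 P.not_dvd_index).pow_left k)
      (hk ▸ Subgroup.index_dvd_of_le le_sup_left) (Subgroup.index_dvd_of_le le_sup_right)
  rcases H31.going_down hL.lt.le hL.eq_or_eq hab hχH
    (fun g x => H6.irr_isClassFunction hχ x g) with h | ⟨φ, e, hφ, h1, h2⟩ | ⟨F, h1, h2, h3⟩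
  · have hΓ : IsIrrCharacter (L ⊔ P : Subgroup G) fun x => χ x :=
      H7.isIrr_of_isIrr_comp (Subgroup.inclusion le_sup_left) (H6.isCharacter_restrict _ hχc) h
    have hc := ih _ (hlt _ hLP) (L ⊔ P : Subgroup G) rfl inferInstance _ hΓ
      (fun g hg => Subtype.ext (hf _ hg)) n hn hW
    have hcen := hOP (Subgroup.centralizer (L : Set G)) inferInstance fun x hx l hl =>
      hc.comm_of_normalizes (hHc.coprime_dvd_left (Subgroup.card_dvd_of_le hL.lt.le)) le_sup_left
        (le_sup_right (a := L) hx) (PE.of_mem P.isPGroup' hx) (Subgroup.le_normalizer_of_normal hx)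
        hl
    have h1 : χ 1 = 1 := H6.irr_one_eq_one_of_comm
      (fun a b => Subtype.ext ((hcen ▸ Subgroup.mem_top (b : G) :) a a.2)) h
    refine hG (pcl_of_comm fun a b => commutatorElement_eq_one_iff_mul_comm.1 (hf _ ?_))
    rw [h1]
    exact H6.char_commutator_of_one_eq_one hχc h1
      (Subgroup.commutator_mem_commutator (Subgroup.mem_top a) (Subgroup.mem_top b))
  · obtain ⟨r, hr, hrp⟩ := hL.exists_prime hab
    obtain ⟨a, ha⟩ := H31.relIndex_eq_pow_of_pow_mem hr hrp
    obtain ⟨m, hm⟩ := H6.char_one_nat (H6.irr_isCharacter hφ)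
    have h3 : e ∣ n := by
      have := congrFun h1 1
      simp only [OneMemClass.coe_one, hn, Pi.smul_apply, hm, smul_eq_mul] at this
      exact ⟨m, by exact_mod_cast this⟩
    have hm := relIndex_modEq L H P P.isPGroup'
    have hLC : L ≤ fixMod L H P := fun x hx => mem_fixMod.2 ⟨hL.lt.le hx, fun g _ =>
      mul_mem (Subgroup.Normal.conj_mem inferInstance x hx g) (inv_mem hx)⟩
    have hCn : (fixMod L H P).Normal := by
      rw [← Subgroup.normalizer_eq_top_iff, eq_top_iff, ← hHP]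
      refine sup_le (H31.normal_of_commutator_le hab hLC inf_le_left)
        fun g hg => Subgroup.mem_normalizer_fintype fun x hx => ?_
      have := hLC ((mem_fixMod.1 hx).2 g hg)
      rw [commutatorElement_def] at this
      simpa using mul_mem this hx
    rcases hL.eq_or_eq _ hCn hLC inf_le_left with h4 | h4
    · rw [h4, Subgroup.relIndex_self, ← h2] at hm
      refine hW ⟨e, isPrimePow_of_dvd hr (j := a) ⟨e, by rw [← ha, ← h2, sq]⟩
        (fun h => hne1 (by rw [← h2, h, one_pow])), h3, ?_⟩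
      have h5 : (p : ℤ) ∣ (e - 1) * (e + 1) := by
        have := (Int.natCast_modEq_iff.2 hm).symm.dvd
        push_cast at this
        convert this using 1; ring
      rcases (Nat.prime_iff_prime_int.1 hp.out).dvd_or_dvd h5 with h | h
      · exact Or.inr (Or.inr (Int.ModEq.symm (Int.modEq_iff_dvd.2 h)))
      · exact Or.inl (Int.ModEq.symm (Int.modEq_iff_dvd.2 (by simpa using h)))
    · refine hLP (hOP _ ?_ le_sup_right)
      rw [← Subgroup.normalizer_eq_top_iff, eq_top_iff, ← hHP]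
      refine sup_le (fun g hg => Subgroup.mem_normalizer_fintype fun x hx => ?_)
        (le_sup_right.trans Subgroup.le_normalizer)
      obtain ⟨y, hy, z, hz, rfl⟩ := Subgroup.mem_sup_of_normal_left.1 hx
      have c1 := inv_mem ((mem_fixMod.1 (h4.ge hg)).2 z hz)
      have : g * (y * z) * g⁻¹ = (g * y * g⁻¹ * ⁅z, g⁆⁻¹) * z := by
        rw [commutatorElement_def]; group
      rw [this]
      exact Subgroup.mul_mem_sup (mul_mem (hL.normalL.conj_mem y hy g) c1) hz
  · obtain ⟨φ, e, hφ, he⟩ := hq L inferInstance bot_le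
    have : ∀ ψ ∈ F, ψ = φ := fun ψ hψ => by
      refine H31.eq_of_homog hφ he (h1 ψ hψ) ?_
      rw [show (fun m : L => χ m) = ∑ φ ∈ F, φ from h3, H6.classInner_sum_left,
        Finset.sum_eq_single_of_mem ψ hψ fun b hb hne => H6.irr_inner_ne (h1 b hb) (h1 ψ hψ) hne,
        H6.irr_inner_self (h1 ψ hψ)]
      exact one_ne_zero
    have h4 : F.card ≤ 1 := Finset.card_le_one.2 fun a ha b hb => (this a ha).trans (this b hb).symm
    have h5 : L.relIndex H ≠ 0 := Subgroup.index_ne_zero_of_finite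
    omega

theorem winter [Finite G] [Group.IsSolvable G] (hp : p.Prime) {χ : G → ℂ}
    (hχ : IsIrrCharacter G χ) (hf : ∀ g, χ g = χ 1 → g = 1) {n : ℕ} (hn : χ 1 = n)
    (h : ¬ PCl p G) : WinterQ p n := by
  haveI := Fact.mk hp
  by_contra hW
  exact h (winter_aux _ G rfl inferInstance χ hχ hf n hn hW)

end H35L
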