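import Mathlib
import Cfsg.Agent.Base
import Cfsg.Agent.Lib.Lin35.Winter
import Cfsg.Agent.Lib.Jordan.Blichfeldt
import Cfsg.Agent.Lib.Core.CoprimeSylow
import Cfsg.Agent.Lib.Core.Fitting
import Cfsg.Agent.Lib.FGS.PLength
import Cfsg.Agent.Lib.Tech58.PPCore

/-! Itô's theorem on `p`-solvable linear groups of degree at most `p - 1`. -/

set_option autoImplicit false
set_option linter.style.haveILetI false

namespace H35L
open Cfsg

variable {G : Type*} [Group G] {p : ℕ}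

theorem comm_of_degree_lt [Finite G] (hp : p.Prime) {χ : G → ℂ} (hχ : IsCharacter G χ)
    (hf : ∀ g, χ g = χ 1 → g = 1) {n : ℕ} (hn : χ 1 = n) (hnp : n < p) {P : Subgroup G}
    (hP : IsPGroup p P) {a b : G} (ha : a ∈ P) (hb : b ∈ P) : a * b = b * a := by
  haveI := Fact.mk hp
  refine H31.LinDeg.comm_subgroup (n := n) ⟨χ, hχ, hf, n, le_rfl, hn⟩ (fun q hq hd => ?_) ha hb
  obtain ⟨k, hk⟩ := hP.exists_card_eq
  rw [(Nat.prime_dvd_prime_iff_eq hq hp).1 (hq.dvd_of_dvd_pow (hk ▸ hd))]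
  exact hnp

theorem WinterQ.eq_of_lt (hp : p.Prime) {m : ℕ} (h : WinterQ p m) (hm : 0 < m) (hmp : m < p) :
    m + 1 = p ∧ ∃ k, m = 2 ^ k := by
  obtain ⟨q, hq, hd, h⟩ := h
  have h1 := Nat.le_of_dvd hm hd
  have h2 := hq.two_le
  have h3 : q + 1 = p := by
    rcases h with h | h | h
    · have : (p : ℤ) ∣ (q + 1 : ℕ) := by simpa using h.symm.dvd
      have := Nat.le_of_dvd (by omega) (Int.natCast_dvd_natCast.1 this)
      omega
    · have : (p : ℤ) ∣ (q : ℕ) := by simpa using h.symm.dvd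
      have := Nat.le_of_dvd (by omega) (Int.natCast_dvd_natCast.1 this)
      omega
    · have : (p : ℤ) ∣ (q - 1 : ℕ) := by rw [Nat.cast_sub (by omega)]; simpa using h.symm.dvd
      have := Nat.le_of_dvd (by omega) (Int.natCast_dvd_natCast.1 this)
      omega
  have h4 : m = q := by omega
  subst h4
  refine ⟨h3, ?_⟩
  obtain ⟨r, k, hr, -, rfl⟩ := (isPrimePow_nat_iff _).1 hq
  have h5 : 2 ∣ r ^ k := by
    have := hp.eq_two_or_odd'
    rcases this with h | h
    · omega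
    · rw [← h3, Nat.odd_add_one, Nat.not_odd_iff_even] at h
      exact h.two_dvd
  exact ⟨k, by rw [(Nat.prime_dvd_prime_iff_eq Nat.prime_two hr).1 (Nat.prime_two.dvd_of_dvd_pow h5)]⟩

theorem ito [Finite G] (hp : p.Prime) {χ : G → ℂ} (hχ : IsCharacter G χ)
    (hf : ∀ g, χ g = χ 1 → g = 1) {n : ℕ} (hn : χ 1 = n) (hs : IsPSolvable p G) (hnp : n < p)
    (h : ¬ PCl p G) : n + 1 = p ∧ (∃ k, n = 2 ^ k) ∧ IsIrrCharacter G χ := by
  classical
  haveI := Fact.mk hp
  obtain ⟨P⟩ : Nonempty (Sylow p G) := inferInstance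
  haveI hPs : Group.IsSolvable (P : Subgroup G) := by
    haveI := P.isPGroup'.isNilpotent
    infer_instance
  have h1 : ¬ pPrimeCore p G ≤ Subgroup.centralizer (P : Set G) := fun hc => by
    have h2 := H58.pPrimeCore_sup_normalizer_sylow_inf P
    have h3 : (P : Subgroup G) ≤ pPrimePCore p G := fun x hx =>
      H76.inf_centralizer_sylow_le hs P
        fun y hy => comm_of_degree_lt hp hχ hf hn hnp P.isPGroup' hy hx
    have h4 : pPrimeCore p G ≤ Subgroup.normalizer ((P : Subgroup G) : Set G) :=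
      hc.trans (Subgroup.centralizer_le_normalizer _)
    rw [inf_eq_left.2 h3, sup_eq_right.2 h4, Subgroup.normalizer_eq_top_iff] at h2
    exact h (pcl_of_normal P)
  obtain ⟨b, hb⟩ := P.isPGroup'.exists_card_eq
  have h2 : ∃ (q : ℕ) (_ : Fact q.Prime) (Q : Subgroup G), IsPGroup q Q ∧ Q ≤ pPrimeCore p G ∧
      (P : Subgroup G) ≤ Subgroup.normalizer (Q : Set G) ∧
      ¬ Q ≤ Subgroup.centralizer (P : Set G) := by
    by_contra hh
    push Not at hh
    exact h1 (H2.le_of_forall_invariant_sylowIn_le (A := P) Subgroup.le_normalizer_of_normal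
      (hb ▸ H1.coprime_card_pPrimeCore.symm.pow_left b) (Or.inl hPs)
      fun q _ Q hQ hN => hh q inferInstance Q hQ.isPGroup hQ.le hN)
  obtain ⟨q, _, Q, hQ, hQO, hN, hQC⟩ := h2
  set Γ := (P : Subgroup G) ⊔ Q with hΓ
  haveI : Group.IsSolvable Γ := H1.isSolvable_sup_of_le_normalizer hPs (by
    haveI := hQ.isNilpotent
    infer_instance) hN
  have hΓc : ¬ PCl p Γ := fun hc => hQC fun k hk x hx =>
    (hc.comm_of_normalizes (H1.coprime_card_pPrimeCore.coprime_dvd_left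
      (Subgroup.card_dvd_of_le hQO)) le_sup_right (le_sup_left (b := Q) hx)
      (PE.of_mem P.isPGroup' hx) (hN hx) hk).symm
  haveI := Fintype.ofFinite Γ
  have hχΓ := H6.isCharacter_restrict Γ hχ
  obtain ⟨ξ, hξ, hne, hξc⟩ : ∃ ξ, IsIrrCharacter Γ ξ ∧ classInner (fun x : Γ => χ x) ξ ≠ 0 ∧
      ¬ PCl p (Γ ⧸ H6.charKer ξ) := by
    by_contra hh
    push Not at hh
    exact hΓc (pcl_of_constituents hp hχΓ (fun g hg => Subtype.ext (hf _ hg)) hh)
  have hξ' := H6.irr_isCharacter hξ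
  obtain ⟨m, hm0, hm⟩ := H6.irr_one_pos hξ
  obtain ⟨φ, hφ, hφξ⟩ := H6.exists_irr_quotient hξ (H6.charKer ξ)
    fun x hx => (H6.mem_charKer hξ').1 hx
  have hφ1 : φ 1 = ξ 1 := hφξ 1
  have hW := winter hp hφ (fun g hg => by
    obtain ⟨g, rfl⟩ := QuotientGroup.mk_surjective g
    rw [hφξ, hφ1] at hg
    exact (QuotientGroup.eq_one_iff g).2 ((H6.mem_charKer hξ').2 hg)) (hφ1.trans hm) hξc
  have hmn : m ≤ n := by
    have := H6.irr_one_le_of_inner_ne_zero hχΓ hξ hne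
    simp only [hm, OneMemClass.coe_one, hn, Complex.natCast_re] at this
    exact_mod_cast this
  obtain ⟨h3, h4⟩ := hW.eq_of_lt hp hm0 (by omega)
  have h5 : m = n := by omega
  subst h5
  refine ⟨h3, h4, H7.isIrr_of_isIrr_res Γ hχ ?_⟩
  rw [H7.eq_of_inner_ne_zero_of_one_eq hχΓ hξ hne (hn.trans hm.symm)]
  exact hξ

end H35L
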