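import Mathlib
import Cfsg.Agent.Base
import Cfsg.Agent.Lib.Lin35.Ito
import Cfsg.Agent.Lib.Deg.FS3
import Cfsg.Agent.Lib.Jordan.Unitary

/-! The Feit–Thompson–Blichfeldt theorem on normal Sylow subgroups of linear groups. -/

set_option autoImplicit false
set_option linter.style.haveILetI false

namespace H35L
open Cfsg
open scoped ComplexConjugate commutatorElement

variable {G : Type*} [Group G] {p : ℕ}

/-- The part of a character that is trivial on `P`. -/
noncomputable def avg (P : Subgroup G) [Fintype P] (φ : G → ℂ) : G → ℂ :=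
  fun y => (Nat.card P : ℂ)⁻¹ * ∑ u : P, φ (u * y)

theorem avg_of_const (P : Subgroup G) [Fintype P] {φ : G → ℂ} {y : G} {c : ℂ}
    (h : ∀ u : P, φ (u * y) = c) : avg P φ y = c := by
  have : (Nat.card P : ℂ) ≠ 0 := H6.card_ne_zero
  simp only [avg, h, Finset.sum_const, Finset.card_univ, nsmul_eq_mul, ← Nat.card_eq_fintype_card]
  field_simp

theorem avg_mul (P : Subgroup G) [Fintype P] (φ : G → ℂ) {u : G} (hu : u ∈ P) (y : G) :
    avg P φ (u * y) = avg P φ y := by
  simp only [avg]
  congr 1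
  exact Fintype.sum_equiv (Equiv.mulRight (⟨u, hu⟩ : P)) _ _ fun v => by simp [mul_assoc]

theorem avg_one (P : Subgroup G) [Fintype P] (φ : G → ℂ) :
    avg P φ 1 = classInner (fun u : P => φ u) (fun _ => 1) := by
  simp [avg, H6.classInner_one_right]

theorem isCharacter_avg [Finite G] (P : Subgroup G) [hP : P.Normal] [Fintype P] {φ : G → ℂ}
    (hφ : IsCharacter G φ) : IsCharacter G (avg P φ) := by
  classical
  haveI := Fintype.ofFinite G
  refine H6.char_induction (P := fun φ => IsCharacter G (avg P φ)) ?_ ?_ ?_ hφ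
  · have : avg P 0 = 0 := funext fun y => avg_of_const P fun _ => rfl
    rw [this]; exact H6.isCharacter_zero
  · intro θ hθ
    by_cases h : classInner (fun u : P => θ u) (fun _ => 1) = 0
    · have h1 : ∀ (F : G → ℂ), ∑ g : G, (if g ∈ P then 1 else 0) * F g = ∑ u : P, F u := fun F => by
        simp only [ite_mul, one_mul, zero_mul]
        rw [← Finset.sum_filter, Finset.sum_subtype (p := (· ∈ P)) _ (by simp)]
      have : avg P θ = 0 := funext fun y => by
        have h2 := H6.sum_mul_irr_mul hθ (f := fun g => if g ∈ P then 1 else 0)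
          (fun g h => by
            have : h * g * h⁻¹ ∈ P ↔ g ∈ P := ⟨fun a => by simpa [mul_assoc] using hP.conj_mem _ a h⁻¹,
              fun a => hP.conj_mem _ a h⟩
            simp only [this]) y
        rw [h1 fun g => θ (g * y), h1] at h2
        rw [H6.classInner_one_right, mul_eq_zero] at h
        simp [avg, h2, h.resolve_left (inv_ne_zero H6.card_ne_zero)]
      rw [this]; exact H6.isCharacter_zero
    · have : avg P θ = θ := funext fun y => avg_of_const P fun u =>
        H6.char_mul_of_eq_one (H6.irr_isCharacter hθ)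
          (H7.res_eq_const_of_inner_one_ne_zero hθ h u u.2) y
      rw [this]; exact H6.irr_isCharacter hθ
  · intro a b ha hb
    have : avg P (a + b) = avg P a + avg P b := funext fun y => by
      simp [avg, Finset.sum_add_distrib, mul_add]
    rw [this]; exact H6.isCharacter_add ha hb

theorem avg_eq_of_fpf [Finite G] (P : Subgroup G) [hP : P.Normal] [Fintype P] {φ : G → ℂ}
    (hφ : IsClassFunction G φ) {y : G} (h : ∀ x ∈ P, x * y = y * x → x = 1) :
    avg P φ y = φ y := by
  let f : P → P := fun u => ⟨u * (y * (u : G)⁻¹ * y⁻¹), mul_mem u.2 (hP.conj_mem _ (inv_mem u.2) y)⟩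
  have hf : Function.Injective f := fun u v e => by
    have e' : (u : G) * (y * (u : G)⁻¹ * y⁻¹) = v * (y * (v : G)⁻¹ * y⁻¹) := congrArg Subtype.val e
    have := h ((v : G)⁻¹ * u) (mul_mem (inv_mem v.2) u.2) (by
      calc (v : G)⁻¹ * u * y = (v : G)⁻¹ * (u * (y * (u : G)⁻¹ * y⁻¹)) * (y * u) := by group
        _ = _ := by rw [e']; group)
    exact Subtype.ext (inv_mul_eq_one.1 this).symm
  rw [avg, ← (Finite.injective_iff_bijective.1 hf).sum_comp, ← avg_of_const P (φ := fun _ => φ y)
    (y := y) fun _ => rfl, avg]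
  congr 1
  refine Finset.sum_congr rfl fun u _ => ?_
  rw [← hφ y u]
  congr 1
  simp only [f]; group

theorem sum_normSq_ge [Fintype G] (P Z : Subgroup G) [P.Normal] [Fintype P] (hd : Disjoint P Z)
    (hZ : Z ≤ Subgroup.center G) {φ : G → ℂ} (hφ : IsCharacter G φ)
    (hs : ∀ z ∈ Z, ‖φ z‖ = ‖φ 1‖) (hne : ∃ u ∈ P, φ u ≠ φ 1) (B : Finset G)
    (hB : ∀ y, y ∉ B → ∀ x ∈ P, x * y = y * x → x = 1) (hPZ : ∀ u ∈ P, ∀ z ∈ Z, u * z ∈ B) :
    (Nat.card G : ℝ) + Nat.card P * Nat.card Z * ‖avg P φ 1‖ ^ 2 ≤ ∑ y ∈ B, ‖φ y‖ ^ 2 := by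
  classical
  have h0 := isCharacter_avg P hφ
  have ha : ∀ y, y ∉ B → (φ - avg P φ) y = 0 := fun y hy => by
    rw [Pi.sub_apply, avg_eq_of_fpf P (H6.char_isClassFunction hφ) (hB y hy), sub_self]
  have hPc : (Nat.card P : ℂ) ≠ 0 := H6.card_ne_zero
  have hc : ∑ y, (φ - avg P φ) y * conj (avg P φ y) = 0 := by
    have h1 : ∀ u : P, ∑ y, φ (u * y) * conj (avg P φ y) = ∑ y, φ y * conj (avg P φ y) :=
      fun u => Fintype.sum_equiv (Equiv.mulLeft (u : G)) _ _ fun y => by
        simp [avg_mul P φ u.2]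
    simp only [Pi.sub_apply, sub_mul, Finset.sum_sub_distrib]
    rw [sub_eq_zero]
    conv_rhs => enter [2, y, 1]; rw [avg, Finset.mul_sum]
    simp only [Finset.sum_mul]
    rw [Finset.sum_comm]
    simp only [mul_assoc, ← Finset.mul_sum, h1, Finset.sum_const, Finset.card_univ, nsmul_eq_mul,
      ← Nat.card_eq_fintype_card]
    field_simp
  have hgen := H6.isGen_sub (H6.char_isGen hφ) (H6.char_isGen h0)
  have hd1 : (Nat.card G : ℝ) ≤ ∑ y ∈ B, ‖(φ - avg P φ) y‖ ^ 2 := by
    obtain ⟨k, hk⟩ := H6.gen_inner_int hgen hgen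
    have h1 := H6.classInner_self_re_nonneg (φ - avg P φ)
    have h2 : k ≠ 0 := by
      rintro rfl
      rw [Int.cast_zero, H6.classInner_self_eq_zero, sub_eq_zero] at hk
      obtain ⟨u, hu, hne⟩ := hne
      apply hne
      rw [hk, ← mul_one u, avg_mul P φ hu]
    have h3 := H6.classInner_self_re (φ - avg P φ)
    rw [hk, Complex.intCast_re] at h1 h3
    have h4 : (1 : ℝ) ≤ k := by
      have : 0 ≤ k := by exact_mod_cast h1
      exact_mod_cast (by omega : 1 ≤ k)
    rw [Finset.sum_subset (Finset.subset_univ B) fun y _ hy => by rw [ha y hy]; simp]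
    have h5 : (0 : ℝ) < Nat.card G := by exact_mod_cast Nat.card_pos
    rw [h3, le_inv_mul_iff₀ h5, mul_one] at h4
    exact h4
  have he : Nat.card P * Nat.card Z * ‖avg P φ 1‖ ^ 2 ≤ ∑ y ∈ B, ‖avg P φ y‖ ^ 2 := by
    have hinj : Function.Injective fun x : P × Z => (x.1 : G) * x.2 :=
      Subgroup.mul_injective_of_disjoint hd
    refine le_trans (le_of_eq ?_) (Finset.sum_le_sum_of_subset_of_nonneg
      (s := Finset.univ.image fun x : P × Z => (x.1 : G) * x.2) (fun y hy => ?_)
      fun _ _ _ => by positivity)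
    · rw [Finset.sum_image fun a _ b _ e => hinj e, Finset.sum_congr rfl
        (g := fun _ => ‖avg P φ 1‖ ^ 2), Finset.sum_const, nsmul_eq_mul, Finset.card_univ,
        ← Nat.card_eq_fintype_card, Nat.card_prod, Nat.cast_mul]
      intro x _
      obtain ⟨ω, hω⟩ := H6.char_mul_of_norm_eq hφ (hs _ x.2.2)
      have h1 : φ 1 ≠ 0 := fun h => by
        obtain ⟨u, -, hu⟩ := hne
        rw [H6.char_eq_zero_of_one hφ h] at hu
        exact hu rfl
      have h2 : ‖ω‖ = 1 := by
        have := hs _ x.2.2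
        rw [← mul_one (x.2 : G), hω, norm_mul] at this
        exact mul_right_cancel₀ (norm_ne_zero_iff.2 h1) (by rw [this, one_mul])
      have h3 : avg P φ x.2 = ω * avg P φ 1 := by
        simp only [avg, mul_one, Subgroup.mem_center_iff.1 (hZ x.2.2), hω, ← Finset.mul_sum]
        ring
      rw [avg_mul P φ x.1.2, h3, norm_mul, h2, one_mul]
    · obtain ⟨x, -, rfl⟩ := Finset.mem_image.1 hy
      exact hPZ _ x.1.2 _ x.2.2
  have hf : ∀ y, ‖φ y‖ ^ 2 = ‖(φ - avg P φ) y‖ ^ 2 + ‖avg P φ y‖ ^ 2 +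
      2 * ((φ - avg P φ) y * conj (avg P φ y)).re := fun y => by
    rw [Complex.sq_norm, Complex.sq_norm, Complex.sq_norm, ← Complex.normSq_add, Pi.sub_apply,
      sub_add_cancel]
  have hc' : ∑ y ∈ B, (φ - avg P φ) y * conj (avg P φ y) = 0 := by
    rw [Finset.sum_subset (Finset.subset_univ B) fun y _ hy => by rw [ha y hy, zero_mul], hc]
  simp only [hf, Finset.sum_add_distrib, ← Finset.mul_sum, ← Complex.re_sum, hc']
  simp only [Complex.zero_re, mul_zero, add_zero]
  linarith

theorem sum_ti_lt [Fintype G] (N : Subgroup G) (A : Finset G) (h1 : (1 : G) ∉ A)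
    (hA : ∀ y ∈ A, ∀ g, g * y * g⁻¹ ∈ A → g ∈ N) {φ : G → ℂ} (hφ : IsIrrCharacter G φ) :
    ∑ y ∈ A, ‖φ y‖ ^ 2 < Nat.card N := by
  classical
  have hc := H6.irr_isClassFunction hφ
  have e1 : (Nat.card G : ℝ) * ∑ y ∈ A, ‖φ y‖ ^ 2 =
      ∑ w, ((Finset.univ.filter fun g => g * w * g⁻¹ ∈ A).card : ℝ) * ‖φ w‖ ^ 2 := by
    have : ∀ g : G, ∑ y ∈ A, ‖φ y‖ ^ 2 = ∑ w, if g * w * g⁻¹ ∈ A then ‖φ w‖ ^ 2 else 0 := fun g => by
      rw [← Finset.sum_ite_mem_eq]
      exact (Fintype.sum_equiv (MulAut.conj g).toEquiv _ _ fun w => by simp [hc w g]).symm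
    rw [Nat.card_eq_fintype_card, ← nsmul_eq_mul, ← Finset.card_univ, ← Finset.sum_const,
      Finset.sum_congr rfl fun g _ => this g, Finset.sum_comm]
    refine Finset.sum_congr rfl fun w _ => ?_
    rw [← Finset.sum_filter, Finset.sum_const, nsmul_eq_mul]
  have e2 : ∀ w, (Finset.univ.filter fun g => g * w * g⁻¹ ∈ A).card ≤ Nat.card N := fun w => by
    rcases (Finset.univ.filter fun g => g * w * g⁻¹ ∈ A).eq_empty_or_nonempty with h | ⟨g₀, h⟩
    · rw [h]; simp
    · rw [Nat.card_eq_fintype_card, Fintype.card_subtype]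
      refine Finset.card_le_card_of_injOn (fun g => g * g₀⁻¹) (fun g hg => ?_)
        fun a _ b _ e => mul_right_cancel e
      simp only [Finset.coe_filter, Finset.mem_univ, true_and, Set.mem_ofPred_eq] at hg ⊢
      refine hA _ (Finset.mem_filter.1 h).2 _ ?_
      convert hg using 1; group
  have e3 : ∑ w, ‖φ w‖ ^ 2 = Nat.card G := by
    have := H6.classInner_self_re φ
    rw [H6.irr_inner_self hφ, Complex.one_re, eq_comm, inv_mul_eq_one₀ (by
      exact_mod_cast Nat.card_pos.ne')] at this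
    exact this.symm
  have hG : (0 : ℝ) < Nat.card G := by exact_mod_cast Nat.card_pos
  refine lt_of_mul_lt_mul_left ?_ hG.le
  rw [e1, ← e3, Finset.sum_mul]
  refine Finset.sum_lt_sum (fun w _ => ?_) ⟨1, Finset.mem_univ _, ?_⟩
  · rw [mul_comm]
    exact mul_le_mul_of_nonneg_left (by exact_mod_cast e2 w) (by positivity)
  · have : (0 : ℝ) < Nat.card N := by exact_mod_cast Nat.card_pos
    have h2 := norm_pos_iff.2 (H6.irr_one_ne_zero hφ)
    simp only [mul_one, mul_inv_cancel, h1, Finset.filter_false, Finset.card_empty, Nat.cast_zero,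
      zero_mul]
    positivity

theorem false_of_small_fixed [Fintype G] (P : Subgroup G) [Fintype P]
    (hP : ∀ a b : P, a * b = b * a) {ξ : G → ℂ} (hξ : IsIrrCharacter G ξ) {m : ℕ} (hm : ξ 1 = m)
    (h1 : 1 < m) (hb : (m + 1) ^ 2 ≤ Nat.card P)
    (h : ∀ φ, IsIrrCharacter G φ → φ ≠ (fun _ => 1) →
      Nat.card P * ‖classInner (fun u : P => φ u) (fun _ => 1)‖ ^ 2 < ‖φ 1‖ ^ 2) : False := by
  classical
  have hξc := H6.irr_isCharacter hξ
  have key := H6.char_induction (P := fun ψ : G → ℂ =>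
    (classInner ψ (fun _ => 1)).re ≤ (ψ 1).re ∧
    (m + 1) * (classInner (fun u : P => ψ u) (fun _ => 1)).re + (classInner ψ (fun _ => 1)).re ≤
      (ψ 1).re + (m + 1) * (classInner ψ (fun _ => 1)).re ∧
    ((classInner ψ (fun _ => 1)).re < (ψ 1).re →
      (m + 1) * (classInner (fun u : P => ψ u) (fun _ => 1)).re + (classInner ψ (fun _ => 1)).re <
      (ψ 1).re + (m + 1) * (classInner ψ (fun _ => 1)).re))
    (by simp [H6.classInner_def]) (fun φ hφ => ?_) (fun a b ha hb => ?_)
    (H6.isCharacter_mul hξc (H6.isCharacter_conj hξc))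
  · have e1 : classInner (ξ * fun g => conj (ξ g)) (fun _ => 1) = 1 := by
      exact (H6.classInner_eq_mul_conj_one ξ ξ).symm.trans (H6.irr_inner_self hξ)
    have e2 : (m : ℝ) ≤ (classInner (fun u : P => (ξ * fun g => conj (ξ g)) u) (fun _ => 1)).re := by
      obtain ⟨k, l, hl⟩ := H31.exists_sum_hom_of_comm hP (H6.isCharacter_restrict P hξc)
      have hk : k = m := by
        have := hl 1
        simp only [OneMemClass.coe_one, hm, map_one, Units.val_one, Finset.sum_const,
          Finset.card_univ, Fintype.card_fin, nsmul_eq_mul, mul_one, Nat.cast_inj] at this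
        exact this.symm
      subst hk
      have e3 : (fun u : P => ξ u) = ∑ i, fun u => (l i u : ℂ) := by funext u; simp [hl]
      have e4 := H6.classInner_eq_mul_conj_one (fun u : P => ξ u) (fun u : P => ξ u)
      change _ ≤ (classInner (fun u : P => ξ u * conj (ξ u)) (fun _ => 1)).re
      rw [← e4, e3, H6.classInner_sum_left, Complex.re_sum]
      refine le_trans (by simp) (Finset.card_nsmul_le_sum _ _ (1 : ℝ) fun i _ => ?_)
      rw [H6.classInner_sum_right, Complex.re_sum]
      refine le_trans ?_ (Finset.single_le_sum (fun j _ => ?_) (Finset.mem_univ i))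
      · rw [H6.hom_inner]; simp
      · rw [H6.hom_inner]; split_ifs <;> simp
    have e5 : (1 : ℝ) < m := by exact_mod_cast h1
    have e6 := key.2.2
    simp only [e1, Pi.mul_apply, hm, map_natCast, Complex.one_re, Complex.mul_re,
      Complex.natCast_re, Complex.natCast_im, mul_zero, sub_zero] at e6 e2
    have := e6 (by nlinarith)
    nlinarith
  · by_cases h1 : φ = fun _ => 1
    · subst h1
      simp [H6.classInner_one_one, add_comm]
    · obtain ⟨a, ha⟩ := H6.char_inner_nat (H6.isCharacter_restrict P (H6.irr_isCharacter hφ))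
        H6.isCharacter_one
      obtain ⟨d, hd⟩ := H6.char_one_nat (H6.irr_isCharacter hφ)
      have h2 := h φ hφ h1
      rw [H6.irr_inner_ne hφ H6.isIrrCharacter_one h1, ha, hd] at *
      simp only [Complex.norm_natCast, Complex.zero_re, Complex.natCast_re, add_zero,
        mul_zero] at h2 ⊢
      have h3 : ((m + 1 : ℝ)) ^ 2 ≤ Nat.card P := by exact_mod_cast hb
      have h4 : ((m + 1) * a : ℝ) < d := by
        refine lt_of_pow_lt_pow_left₀ 2 (by positivity) ?_
        rw [mul_pow]
        exact lt_of_le_of_lt (mul_le_mul_of_nonneg_right h3 (by positivity)) h2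
      exact ⟨by positivity, h4.le, fun _ => h4⟩
  · have e : (fun u : P => (a + b) u) = (fun u : P => a u) + fun u : P => b u := rfl
    rw [e]
    simp only [H6.classInner_add_left, Pi.add_apply, Complex.add_re]
    obtain ⟨a1, a2, a3⟩ := ha
    obtain ⟨b1, b2, b3⟩ := hb
    refine ⟨by linarith, by linarith, fun h => ?_⟩
    by_cases h' : (classInner a (fun _ => 1)).re < (a 1).re
    · have := a3 h'; linarith
    · have := b3 (by linarith); linarith

theorem PCl.isPSolvable [Finite G] [Fact p.Prime] (h : PCl p G) : IsPSolvable p G := by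
  obtain ⟨P⟩ : Nonempty (Sylow p G) := inferInstance
  haveI := h.normal P
  exact H76.isPSolvable_extension P (H76.isPSolvable_of_isPGroup P.isPGroup')
    (H76.isPSolvable_of_coprime
      ((Nat.Prime.coprime_iff_not_dvd Fact.out).2 P.not_dvd_index).symm)

theorem eq_one_of_central_of_perfect [Finite G] [hp : Fact p.Prime] (hG : commutator G = ⊤)
    (hab : ∀ Q : Sylow p G, ∀ a ∈ (Q : Subgroup G), ∀ b ∈ (Q : Subgroup G), a * b = b * a) {z : G}
    (hz : z ∈ Subgroup.center G) (h : PE p z) : z = 1 := by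
  obtain ⟨Q, hQ⟩ := h.exists_sylow
  letI : CommGroup (Q : Subgroup G) :=
    { (inferInstance : Group (Q : Subgroup G)) with
      mul_comm := fun a b => Subtype.ext (hab Q _ a.2 _ b.2) }
  have h1 := MonoidHom.transfer_eq_pow (MonoidHom.id (Q : Subgroup G)) z fun k g _ => by
    rw [mul_assoc, ← Subgroup.mem_center_iff.1 (pow_mem hz k), inv_mul_cancel_left]
  have h2 : z ∈ (MonoidHom.transfer (MonoidHom.id (Q : Subgroup G))).ker :=
    Abelianization.commutator_subset_ker _ (hG ▸ Subgroup.mem_top z)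
  rw [MonoidHom.mem_ker, h1] at h2
  exact h.eq_one_of_coprime ((Nat.Prime.coprime_iff_not_dvd hp.out).2 Q.not_dvd_index).symm
    (congrArg Subtype.val h2)

theorem ftb_core [Finite G] [hp : Fact p.Prime] {χ : G → ℂ} (hχ : IsCharacter G χ)
    (hf : ∀ g, χ g = χ 1 → g = 1) {n : ℕ} (hn : χ 1 = n) (hnp : n + 1 < p)
    (hmin : ∀ K : Subgroup G, K ≠ ⊤ → PCl p K) (P : Sylow p G)
    (hbig : (n + 1) ^ 2 ≤ Nat.card P) : PCl p G := by
  classical
  haveI := Fintype.ofFinite G
  by_contra hG
  have hab : ∀ Q : Sylow p G, ∀ a ∈ (Q : Subgroup G), ∀ b ∈ (Q : Subgroup G), a * b = b * a :=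
    fun Q a ha b hb => comm_of_degree_lt hp.out hχ hf hn (by omega) Q.isPGroup' ha hb
  have hOP : ∀ M : Subgroup G, M.Normal → (P : Subgroup G) ≤ M → M = ⊤ := fun M hM h => by
    by_contra hM'
    exact hG (pcl_of_index ((Nat.Prime.coprime_iff_not_dvd hp.out).2 fun h' =>
      P.not_dvd_index (h'.trans (Subgroup.index_dvd_of_le h))).symm (hmin M hM'))
  have hperf : commutator G = ⊤ := by
    by_contra h
    haveI : Group.IsSolvable (G ⧸ commutator G) :=
      inferInstanceAs (Group.IsSolvable (Abelianization G))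
    have := (ito hp.out hχ hf hn (H76.isPSolvable_extension _ (hmin _ h).isPSolvable
      H76.isPSolvable_of_isSolvable) (by omega) hG).1
    omega
  have hZ := fun z => eq_one_of_central_of_perfect hperf hab (z := z)
  have hcen : ∀ y, y ∉ Subgroup.center G → PCl p (Subgroup.centralizer ({y} : Set G)) :=
    fun y hy => hmin _ fun h => hy (Subgroup.mem_center_iff.2 fun g =>
      (Subgroup.mem_centralizer_singleton_iff.1 (h ▸ Subgroup.mem_top g)))
  have hTI : ∀ (Q R : Sylow p G) (x : G), x ≠ 1 → x ∈ Q → x ∈ R → Q = R := fun Q R x hx h1 h2 => by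
    have hc := hcen x fun h => hx (hZ x h (PE.of_mem Q.isPGroup' h1))
    have : ∀ S : Sylow p G, x ∈ S → hc.sub = S := fun S hS => S.is_maximal' hc.isPGroup_sub
      fun y hy => ⟨Subgroup.mem_centralizer_singleton_iff.2 (hab S _ hy _ hS),
        PE.of_mem S.isPGroup' hy⟩
    exact Sylow.ext ((this Q h1).symm.trans (this R h2))
  have hP1 : ∃ x ∈ (P : Subgroup G), x ≠ 1 := by
    by_contra h
    push Not at h
    haveI : (P : Subgroup G).Normal := by
      rw [(Subgroup.eq_bot_iff_forall _).2 h]; infer_instance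
    exact hG (pcl_of_normal P)
  obtain ⟨ξ, hξ, hne, hξ1⟩ : ∃ ξ, IsIrrCharacter G ξ ∧ classInner χ ξ ≠ 0 ∧ ξ ≠ fun _ => 1 := by
    by_contra h
    push Not at h
    obtain ⟨x, -, hx⟩ := hP1
    exact hx (hf x (apply_eq_of_constituents hχ fun ψ h1 h2 => by rw [h ψ h1 h2]))
  obtain ⟨m, hm0, hm⟩ := H6.irr_one_pos hξ
  have hmn : m ≤ n := by
    have := H6.irr_one_le_of_inner_ne_zero hχ hξ hne
    simp only [hm, hn, Complex.natCast_re] at this
    exact_mod_cast this
  have hm1 : m ≠ 1 := by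
    rintro rfl
    exact hξ1 (funext fun x => H6.char_commutator_of_one_eq_one (H6.irr_isCharacter hξ)
      (by simpa using hm) (hperf ▸ Subgroup.mem_top x))
  refine false_of_small_fixed (P : Subgroup G) (fun a b => Subtype.ext (hab P _ a.2 _ b.2)) hξ hm
    (by omega) (le_trans (Nat.pow_le_pow_left (by omega) 2) hbig) fun φ hφ hφ1 => ?_
  have hφc := H6.irr_isCharacter hφ
  set N := Subgroup.normalizer ((P : Subgroup G) : Set G) with hN
  have hPN : (P : Subgroup G) ≤ N := Subgroup.le_normalizer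
  let A : Finset G := Finset.univ.filter fun y =>
    (∃ x ∈ (P : Subgroup G), x ≠ 1 ∧ x * y = y * x) ∧ y ∉ Subgroup.center G
  have h1 := sum_ti_lt N A (by simp [A]) (fun y hy g hg => by
    obtain ⟨⟨x, hx, hx1, hxy⟩, hyZ⟩ := (Finset.mem_filter.1 hy).2
    obtain ⟨⟨x', hx', hx1', hxy'⟩, -⟩ := (Finset.mem_filter.1 hg).2
    have hc := hcen y hyZ
    obtain ⟨R, hR⟩ := hc.isPGroup_sub.exists_le_sylow
    have e1 : P = R := hTI P R x hx1 hx (hR ⟨Subgroup.mem_centralizer_singleton_iff.2 hxy,
      PE.of_mem P.isPGroup' hx⟩)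
    have e2 : g⁻¹ * x' * g ∈ R := hR ⟨Subgroup.mem_centralizer_singleton_iff.2 (by
      calc g⁻¹ * x' * g * y = g⁻¹ * (x' * (g * y * g⁻¹)) * g := by group
        _ = _ := by rw [hxy']; group), by
          simpa using (PE.of_mem P.isPGroup' hx').conj g⁻¹⟩
    exact Sylow.smul_eq_iff_mem_normalizer.1
      (hTI _ _ x' hx1' (H4.mem_smul_sylow_iff.2 (e1 ▸ e2)) hx')) hφ
  let B : Finset N := Finset.univ.filter fun y =>
    ∃ x ∈ (P : Subgroup G), x ≠ 1 ∧ x * y = y * x
  have h2 := sum_normSq_ge ((P : Subgroup G).subgroupOf N) ((Subgroup.center G).subgroupOf N)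
    (Subgroup.disjoint_def.2 fun {x} a b => Subtype.ext (hZ _ b (PE.of_mem P.isPGroup' a)))
    (fun z hz => Subgroup.mem_center_iff.2 fun g => Subtype.ext (Subgroup.mem_center_iff.1 hz g))
    (H6.isCharacter_restrict N hφc) (fun z hz => H87.norm_eq_of_mem_center hφ hz) (by
      by_contra h
      push Not at h
      have := hOP (H6.charKer φ) inferInstance fun x hx =>
        (H6.mem_charKer hφc).2 (h ⟨x, hPN hx⟩ hx)
      exact hφ1 (H6.irr_eq_one_of_forall_eq hφ fun g =>
        (H6.mem_charKer hφc).1 (this ▸ Subgroup.mem_top g))) B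
    (fun y hy x hx hxy => by
      by_contra hx1
      exact hy (Finset.mem_filter.2 ⟨Finset.mem_univ _, x, hx, fun h => hx1 (Subtype.ext h),
        congrArg Subtype.val hxy⟩))
    (fun u hu z hz => by
      obtain ⟨x, hx, hx1⟩ := hP1
      refine Finset.mem_filter.2 ⟨Finset.mem_univ _, x, hx, hx1, ?_⟩
      rw [Subgroup.coe_mul, ← mul_assoc, hab P x hx u hu, mul_assoc, mul_assoc,
        show x * z = z * x from Subgroup.mem_center_iff.1 hz x])
  have h3 : ∑ y ∈ B, ‖φ y‖ ^ 2 ≤ ∑ y ∈ A, ‖φ y‖ ^ 2 +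
      Nat.card ((Subgroup.center G).subgroupOf N) * ‖φ 1‖ ^ 2 := by
    rw [← Finset.sum_filter_add_sum_filter_not B (fun y : N => (y : G) ∉ Subgroup.center G)]
    refine add_le_add ?_ ?_
    · rw [← Finset.sum_image (s := B.filter fun y : N => (y : G) ∉ Subgroup.center G)
        (g := Subtype.val) (f := fun y => ‖φ y‖ ^ 2) fun a _ b _ e => Subtype.ext e]
      refine Finset.sum_le_sum_of_subset_of_nonneg (fun y hy => ?_) fun _ _ _ => by positivity
      obtain ⟨y, hy', rfl⟩ := Finset.mem_image.1 hy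
      obtain ⟨a1, a2⟩ := Finset.mem_filter.1 hy'
      exact Finset.mem_filter.2 ⟨Finset.mem_univ _, (Finset.mem_filter.1 a1).2, a2⟩
    · refine (Finset.sum_le_card_nsmul _ _ (‖φ 1‖ ^ 2) fun y _ =>
        pow_le_pow_left₀ (norm_nonneg _) (H6.char_norm_le hφc _) 2).trans ?_
      rw [nsmul_eq_mul]
      refine mul_le_mul_of_nonneg_right ?_ (by positivity)
      rw [Nat.card_eq_fintype_card, Fintype.card_subtype]
      refine Nat.cast_le.2 (Finset.card_le_card fun y hy => ?_)
      simp only [Finset.mem_filter, not_not, Finset.mem_univ, true_and] at hy ⊢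
      exact hy.2
  rw [avg_one, Nat.card_congr (Subgroup.subgroupOfEquivOfLe hPN).toEquiv] at h2
  have h4 := H7.classInner_subgroupOf hPN (fun u => φ u) (fun _ => 1)
  have h5 : (0 : ℝ) < Nat.card ((Subgroup.center G).subgroupOf N) := by exact_mod_cast Nat.card_pos
  rw [← h4]
  refine lt_of_mul_lt_mul_left ?_ h5.le
  nlinarith

theorem ftb [Finite G] [hp : Fact p.Prime] {χ : G → ℂ} (hχ : IsCharacter G χ)
    (hf : ∀ g, χ g = χ 1 → g = 1) {n : ℕ} (hn : χ 1 = n)
    (h : (n + 1) ^ 2 ≤ p ∨ (n + 1 < p ∧ ∀ K : Subgroup G, ¬ p ^ 2 ∣ Nat.card K → PCl p K)) :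
    PCl p G := by
  have hnp : n + 1 < p := by
    rcases h with h | h
    · rcases Nat.eq_zero_or_pos n with h0 | h0
      · have := hp.out.two_le; omega
      · nlinarith
    · exact h.1
  suffices key : ∀ (k : ℕ) (H : Subgroup G), Nat.card H = k → PCl p H from
    fun x y hx hy => (key _ ⊤ rfl).mul trivial trivial hx hy
  intro k
  induction k using Nat.strong_induction_on with
  | _ k ih =>
  intro H hH
  obtain ⟨P⟩ : Nonempty (Sylow p H) := inferInstance
  by_contra hc
  refine hc (ftb_core (H6.isCharacter_restrict H hχ) (fun g hg => Subtype.ext (hf _ hg)) hn hnp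
    (fun K hK => ?_) P ?_)
  · refine (ih _ ?_ (K.map H.subtype) rfl).of_injective
      (K.equivMapOfInjective H.subtype H.subtype_injective).toMonoidHom (MulEquiv.injective _)
    rw [Subgroup.card_map_of_injective H.subtype_injective, ← hH]
    exact lt_of_le_of_ne (Subgroup.card_le_card_group K) fun h => hK (K.eq_top_of_card_eq h)
  · rw [P.card_eq_multiplicity]
    rcases h with h | h
    · refine h.trans (Nat.le_self_pow (fun h0 => hc ?_) p)
      have := P.card_eq_multiplicity
      rw [h0, pow_zero, Subgroup.card_eq_one] at this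
      haveI : (P : Subgroup H).Normal := by rw [this]; infer_instance
      exact pcl_of_normal P
    · have h2 : p ^ 2 ∣ Nat.card H := by
        by_contra h2
        exact hc (h.2 H h2)
      exact (Nat.pow_le_pow_left hnp.le 2).trans (Nat.pow_le_pow_right hp.out.pos
        ((hp.out.pow_dvd_iff_le_factorization Nat.card_pos.ne').1 h2))

end H35L
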