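import Mathlib
import Cfsg.Agent.Base
import Cfsg.Agent.Lib.Jordan.Unitary

/-! Blichfeldt's theorem on elements whose eigenvalues lie within `π / 3` of one of them. -/

set_option autoImplicit false
set_option linter.style.haveILetI false

namespace H35L
open Cfsg Matrix
open scoped ComplexConjugate Matrix.Norms.L2Operator

variable {G : Type*} [Group G]

theorem blich_vec [Finite G] {E : Type*} [NormedAddCommGroup E] [InnerProductSpace ℂ E]
    [FiniteDimensional ℂ E] (ρ : Representation ℂ G E) (hiso : ∀ g v, ‖ρ g v‖ = ‖v‖)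
    (hirr : ∀ W : Submodule ℂ E, (∀ g, ∀ v ∈ W, ρ g v ∈ W) → W = ⊥ ∨ W = ⊤) (T : Set G)
    (hT : ∀ t ∈ T, ∀ g, g⁻¹ * t * g ∈ T) (hgen : Subgroup.closure T = ⊤) {m : ℕ} {ω : ℂ}
    (hω : ω ^ (m + 1) = 1) (h1 : ∀ t ∈ T, ∀ v, v ≠ 0 → ‖ρ t v - ω • v‖ < ‖v‖)
    (h2 : ∃ t ∈ T, ∃ v, v ≠ 0 ∧ ρ t v = ω • v) : ∃ t ∈ T, ∀ v, ρ t v = ω • v := by
  classical
  haveI := Fintype.ofFinite G
  have hω1 : ‖ω‖ = 1 := Complex.norm_eq_one_of_pow_eq_one hω (Nat.succ_ne_zero m)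
  have hmul : ∀ a b v, ρ a (ρ b v) = ρ (a * b) v := fun a b v => by rw [map_mul]; rfl
  let Tw : E → Set G := fun w => {t | t ∈ T ∧ ρ t w = ω • w}
  obtain ⟨t₀, ht₀, v₀, hv₀, hv₀'⟩ := h2
  obtain ⟨_, ⟨w, hw, rfl⟩, hmax⟩ := Set.exists_max_image {S | ∃ w, w ≠ 0 ∧ S = Tw w} Set.ncard
    (Set.toFinite _) ⟨_, v₀, hv₀, rfl⟩
  let W : Submodule ℂ E :=
    { carrier := {v | ∀ t ∈ Tw w, ρ t v = ω • v}
      add_mem' := fun ha hb t ht => by rw [map_add, ha t ht, hb t ht, smul_add]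
      zero_mem' := fun t _ => by simp
      smul_mem' := fun c v hv t ht => by rw [map_smul, hv t ht, smul_comm] }
  have hwW : w ∈ W := fun t ht => ht.2
  have F1 : ∀ v ∈ W, v ≠ 0 → Tw w = Tw v := fun v hv h0 =>
    Set.eq_of_subset_of_ncard_le (fun t ht => ⟨ht.1, hv t ht⟩) (hmax _ ⟨v, h0, rfl⟩)
  have F2 : ∀ g, ρ g w ∈ W → ∀ v ∈ W, ρ g v ∈ W := fun g hg v hv t ht => by
    have h0 : ρ g w ≠ 0 := by rw [← norm_ne_zero_iff, hiso, norm_ne_zero_iff]; exact hw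
    have h3 : g⁻¹ * t * g ∈ Tw w := ⟨hT t ht.1 g, by
      rw [← hmul, ← hmul, (F1 _ hg h0 ▸ ht : t ∈ Tw (ρ g w)).2, map_smul, hmul, inv_mul_cancel, map_one]; rfl⟩
    rw [hmul, show t * g = g * (g⁻¹ * t * g) by group, ← hmul, hv _ h3, map_smul]
  have hn : ∀ (g : G) (v : E), ‖ω ^ m • ρ g v - v‖ = ‖ρ g v - ω • v‖ := fun g v => by
    have : ω ^ m • ρ g v - v = ω ^ m • (ρ g v - ω • v) := by
      rw [smul_sub, smul_smul, ← pow_succ, hω, one_smul]
    rw [this, norm_smul, norm_pow, hω1, one_pow, one_mul]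
  have main : ∀ g, ρ g w ∈ W := by
    by_contra hc
    push Not at hc
    obtain ⟨g₀, hg₀⟩ := hc
    obtain ⟨⟨k, h⟩, hkh, hmin⟩ := Finset.exists_min_image
      ((Finset.range (m + 1) ×ˢ Finset.univ).filter fun x : ℕ × G => ρ x.2 w ∉ W)
      (fun x => ‖ω ^ x.1 • ρ x.2 w - w‖) ⟨(0, g₀), by simp [hg₀]⟩
    have hh : ρ h w ∉ W := (Finset.mem_filter.1 hkh).2
    have hmin' : ∀ g, ‖ρ g w - ω • w‖ < ‖ω ^ k • ρ h w - w‖ → ρ g w ∈ W := fun g hg => by
      by_contra hc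
      have := hmin (m, g) (by simp [hc])
      simp only [hn] at this
      exact absurd hg (not_lt.2 this)
    have hω0 : ω ≠ 0 := by rintro rfl; simp at hω1
    have hu : ω ^ k • ρ h w - w ≠ 0 := fun e => hh (by
      rw [← W.smul_mem_iff (pow_ne_zero k hω0), sub_eq_zero.1 e]; exact hwW)
    have s1 : ∀ t ∈ Tw w, ρ (h⁻¹ * t * h) w ∈ W := fun t ht => by
      refine hmin' _ (lt_of_eq_of_lt ?_ (h1 t ht.1 _ hu))
      have : ρ t (ω ^ k • ρ h w - w) - ω • (ω ^ k • ρ h w - w) =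
          ω ^ k • ρ h (ρ (h⁻¹ * t * h) w - ω • w) := by
        rw [map_sub, map_sub, ht.2, map_smul, map_smul, hmul, hmul, smul_sub, smul_sub,
          smul_comm ω, show h * (h⁻¹ * t * h) = t * h by group]
        abel
      rw [this, norm_smul, norm_pow, hω1, one_pow, one_mul, hiso]
    obtain ⟨a, ha, b, hb, hab⟩ := W.exists_add_mem_mem_orthogonal (ρ h⁻¹ w)
    have pyth : ∀ x ∈ W, ‖x + b‖ ^ 2 = ‖x‖ ^ 2 + ‖b‖ ^ 2 := fun x hx => by
      rw [sq, sq, sq]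
      exact norm_add_sq_eq_norm_sq_add_norm_sq_of_inner_eq_zero _ _
        (Submodule.inner_right_of_mem_orthogonal hx hb)
    have s2 : ∀ t ∈ Tw w, ρ (h⁻¹ * t * h) a = ω • a := fun t ht => by
      have e1 : ρ (h⁻¹ * t * h) (a + b) = ω • (a + b) := by
        rw [← hab, hmul, show h⁻¹ * t * h * h⁻¹ = h⁻¹ * t by group, ← hmul, ht.2, map_smul]
      have e2 : ω ^ m • ρ (h⁻¹ * t * h) b = (a - ω ^ m • ρ (h⁻¹ * t * h) a) + b := by
        have := congrArg (fun x => ω ^ m • x) e1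
        simp only [map_add, smul_add, smul_smul, ← pow_succ, hω, one_smul] at this
        rw [sub_add_eq_add_sub, ← this]; abel
      have e3 := pyth _ (W.sub_mem ha (W.smul_mem (ω ^ m) (F2 _ (s1 t ht) a ha)))
      rw [← e2, norm_smul, norm_pow, hω1, one_pow, one_mul, hiso, right_eq_add, sq_eq_zero_iff,
        norm_sub_rev, hn, norm_eq_zero, sub_eq_zero] at e3
      exact e3
    have s3 : a = 0 := by
      by_contra h0
      refine hh fun t ht => ?_
      have : h⁻¹ * t * h ∈ Tw w := F1 a ha h0 ▸ ⟨hT t ht.1 h, s2 t ht⟩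
      rw [hmul, show t * h = h * (h⁻¹ * t * h) by group, ← hmul, this.2, map_smul]
    have s4 : ‖w‖ ≤ ‖ω ^ k • ρ h w - w‖ := by
      have e1 : ω ^ k • ρ h w - w = -ρ h (-(ω ^ k • w) + b) := by
        rw [s3, zero_add] at hab
        rw [← hab, map_add, map_neg, map_smul, hmul, mul_inv_cancel, map_one]
        simp only [Module.End.one_apply]; abel
      have e2 := pyth _ (W.neg_mem (W.smul_mem (ω ^ k) hwW))
      rw [norm_neg, norm_smul, norm_pow, hω1, one_pow, one_mul] at e2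
      rw [e1, norm_neg, hiso]
      exact le_of_sq_le_sq (by rw [e2]; nlinarith [sq_nonneg ‖b‖]) (norm_nonneg _)
    have s5 : ∀ g ∈ Subgroup.closure T, ∀ v ∈ W, ρ g v ∈ W := by
      let S : Subgroup G :=
        { carrier := {g | ∀ v ∈ W, ρ g v ∈ W}
          one_mem' := fun v hv => by simpa using hv
          mul_mem' := fun ha hb v hv => by rw [← hmul]; exact ha _ (hb v hv)
          inv_mem' := fun {g} hg => by
            have : ∀ j : ℕ, ∀ v ∈ W, ρ (g ^ j) v ∈ W := fun j => by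
              induction j with
              | zero => intro v hv; simpa using hv
              | succ j ih => intro v hv; rw [pow_succ, ← hmul]; exact ih _ (hg v hv)
            rw [inv_eq_of_mul_eq_one_right (a := g) (b := g ^ (orderOf g - 1))
              (by rw [← pow_succ', Nat.sub_add_cancel (orderOf_pos g), pow_orderOf_eq_one])]
            exact this _ }
      exact fun g hg => (Subgroup.closure_le S).2
        (fun t ht => F2 t (hmin' t ((h1 t ht w hw).trans_le s4))) hg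
    exact hh (s5 h (hgen ▸ Subgroup.mem_top h) w hwW)
  rcases hirr W fun g => F2 g (main g) with h | h
  · exact absurd ((Submodule.eq_bot_iff W).1 h w hwW) hw
  · have : (Tw w).Nonempty := Set.nonempty_of_ncard_ne_zero fun e => by
      have := hmax _ ⟨v₀, hv₀, rfl⟩
      rw [e, Nat.le_zero, Set.ncard_eq_zero] at this
      have h3 : t₀ ∈ Tw v₀ := ⟨ht₀, hv₀'⟩
      rw [this] at h3
      exact h3
    obtain ⟨t, ht⟩ := this
    exact ⟨t, ht.1, fun v => (h ▸ Submodule.mem_top : v ∈ W) t ht⟩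

/-- `N` times the multiplicity of the eigenvalue `μ` of `t`. -/
noncomputable def emult (χ : G → ℂ) (t : G) (N : ℕ) (μ : ℂ) : ℂ :=
  ∑ j ∈ Finset.range N, χ (t ^ j) * μ⁻¹ ^ j

open Classical in
theorem emult_eq {χ : G → ℂ} {t : G} {N : ℕ} (hN : N ≠ 0) {κ : Type*} [Fintype κ] {a : κ → ℂ}
    (ha : ∀ i, a i ^ N = 1) (h : ∀ j, χ (t ^ j) = ∑ i, a i ^ j) {μ : ℂ} (hμ : μ ^ N = 1) :
    emult χ t N μ = N * (Finset.univ.filter fun i => a i = μ).card := by
  have h0 : μ ≠ 0 := by rintro rfl; simp [hN] at hμ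
  simp only [emult, h, Finset.sum_mul, ← mul_pow]
  rw [Finset.sum_comm, Finset.card_filter, Nat.cast_sum, Finset.mul_sum]
  refine Finset.sum_congr rfl fun i _ => ?_
  split_ifs with e
  · simp [e, h0]
  · rw [geom_sum_eq (fun e' => e ((mul_inv_eq_one₀ h0).1 e')), mul_pow, inv_pow, ha, hμ]
    simp

theorem emult_ne_zero_iff {χ : G → ℂ} {t : G} {N : ℕ} (hN : N ≠ 0) {κ : Type*} [Fintype κ]
    {a : κ → ℂ} (ha : ∀ i, a i ^ N = 1) (h : ∀ j, χ (t ^ j) = ∑ i, a i ^ j) {μ : ℂ}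
    (hμ : μ ^ N = 1) : emult χ t N μ ≠ 0 ↔ ∃ i, a i = μ := by
  classical
  rw [emult_eq hN ha h hμ]
  simp [hN]

theorem eigen_iff_emult {V : Type*} [AddCommGroup V] [Module ℂ V] [FiniteDimensional ℂ V]
    (ρ : Representation ℂ G V) {t : G} {N : ℕ} (hN : N ≠ 0) (ht : t ^ N = 1) {μ : ℂ}
    (hμ : μ ^ N = 1) : (∃ v, v ≠ 0 ∧ ρ t v = μ • v) ↔ emult ρ.character t N μ ≠ 0 := by
  obtain ⟨b, ω, h1, h2⟩ := H6.exists_eigenbasis ρ hN ht
  rw [emult_ne_zero_iff (χ := ρ.character) (t := t) hN h2 (fun k =>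
    H6.trace_of_eigenbasis b _ _ fun i => by
      rw [map_pow]; exact H6.pow_apply_of_eigen _ (h1 i) k) hμ]
  constructor
  · rintro ⟨v, hv, e⟩
    obtain ⟨i, hi⟩ : ∃ i, b.repr v i ≠ 0 := by
      by_contra h
      push Not at h
      exact hv (b.repr.map_eq_zero_iff.1 (Finsupp.ext h))
    refine ⟨i, mul_right_cancel₀ hi ?_⟩
    have := congrArg (fun x => b.repr x i) e
    simp only [map_smul, Finsupp.smul_apply, smul_eq_mul] at this
    rw [← this]
    conv_rhs => rw [← b.sum_repr v, map_sum, map_sum]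
    simp only [map_smul, h1, Module.Basis.repr_self, Finsupp.coe_finsetSum, Finset.sum_apply,
      Finsupp.smul_apply, Finsupp.single_apply, smul_eq_mul, mul_ite, mul_one, mul_zero,
      Finset.sum_ite_eq', Finset.mem_univ, if_true]
    exact mul_comm _ _
  · rintro ⟨i, rfl⟩
    exact ⟨b i, b.ne_zero i, h1 i⟩

/-- Blichfeldt's theorem. -/
theorem blichfeldt [Finite G] {χ : G → ℂ} (hχ : IsIrrCharacter G χ) (T : Set G)
    (hT : ∀ t ∈ T, ∀ g, g⁻¹ * t * g ∈ T) (hgen : Subgroup.closure T = ⊤) {N : ℕ} (hN : N ≠ 0)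
    (hTN : ∀ t ∈ T, t ^ N = 1) {ω : ℂ} (hω : ω ^ N = 1)
    (h1 : ∀ t ∈ T, ∀ μ, μ ^ N = 1 → emult χ t N μ ≠ 0 → ‖μ - ω‖ < 1)
    (h2 : ∃ t ∈ T, emult χ t N ω ≠ 0) : ∃ t ∈ T, χ t = ω * χ 1 := by
  obtain ⟨n, hn0, hn⟩ := H6.irr_one_pos hχ
  obtain ⟨Ψ, hΨ, hχΨ⟩ := H31.exists_unitary_of_char (H6.irr_isCharacter hχ) hn
  haveI : Nonempty (Fin n) := ⟨⟨0, hn0⟩⟩
  let ρ : Representation ℂ G (EuclideanSpace ℂ (Fin n)) :=
    { toFun := fun g => (toEuclideanCLM (n := Fin n) (𝕜 := ℂ) (Ψ g) :)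
      map_one' := by rw [map_one, map_one]; rfl
      map_mul' := fun a b => by rw [map_mul, map_mul]; rfl }
  have hρ : ρ.character = χ := funext fun g => by
    rw [hχΨ, ← Matrix.trace_toLin_eq (Ψ g) (EuclideanSpace.basisFun (Fin n) ℂ).toBasis]
    rfl
  have hirr : ρ.IsIrreducible := (H6.isIrrCharacter_character_iff ρ).1 (hρ ▸ hχ)
  obtain ⟨m, rfl⟩ := Nat.exists_eq_succ_of_ne_zero hN
  refine (blich_vec ρ (fun g v => ?_) (fun W hW => ?_) T hT hgen hω
    (fun t ht v hv => ?_) (by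
      obtain ⟨t, ht, h⟩ := h2
      exact ⟨t, ht, (eigen_iff_emult ρ hN (hTN t ht) hω).2 (hρ ▸ h)⟩)).imp
    fun t ⟨ht, h⟩ => ⟨ht, ?_⟩
  rotate_right
  · have : ρ t = ω • LinearMap.id := LinearMap.ext h
    rw [← hρ, Representation.char_one, Representation.character, this]
    simp
  · exact ContinuousLinearMap.norm_map_of_mem_unitary
      (Unitary.map_mem (toEuclideanCLM (n := Fin n) (𝕜 := ℂ)) (hΨ g)) v
  · rcases hirr.eq_bot_or_eq_top ⟨W, hW⟩ with h | h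
    · exact Or.inl (congrArg Subrepresentation.toSubmodule h)
    · exact Or.inr (congrArg Subrepresentation.toSubmodule h)
  · obtain ⟨μ, u, hu, e1, e2⟩ := H31.exists_eigen_norm (hΨ t) ω
    have e3 : ρ t (WithLp.toLp 2 u) = μ • WithLp.toLp 2 u := congrArg (WithLp.toLp 2) e1
    have hu' : WithLp.toLp 2 u ≠ 0 := fun h => hu (congrArg WithLp.ofLp h)
    have hμ : μ ^ (m + 1) = 1 := by
      have := H6.pow_apply_of_eigen _ e3 (m + 1)
      rw [← map_pow, hTN t ht, map_one, Module.End.one_apply, eq_comm, ← sub_eq_zero] at this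
      nth_rw 2 [← one_smul ℂ (WithLp.toLp 2 u)] at this
      rw [← sub_smul, smul_eq_zero, sub_eq_zero] at this
      exact this.resolve_right hu'
    have e4 := h1 t ht μ hμ (hρ ▸ (eigen_iff_emult ρ hN (hTN t ht) hμ).1 ⟨_, hu', e3⟩)
    have e5 := (toEuclideanCLM (n := Fin n) (𝕜 := ℂ) (Ψ t - ω • 1)).le_opNorm v
    rw [l2_opNorm_toEuclideanCLM, e2, map_sub, map_smul, map_one] at e5
    exact lt_of_le_of_lt e5 (mul_lt_of_lt_one_left (norm_pos_iff.2 hv) e4)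

end H35L
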