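import Mathlib
import Cfsg.Agent.Base
import Cfsg.Agent.Lib.Lin35.Blich
import Cfsg.Agent.Lib.Lin35.Winter
import Cfsg.Agent.Lib.Jordan.Main
import Cfsg.Agent.Lib.Deg.FS3
import Cfsg.Agent.Lib.PGroup.Basic
import Cfsg.Agent.Lib.Core.PCore

/-! Irreducible linear groups of degree less than `2 p`. -/

set_option autoImplicit false
set_option linter.style.haveILetI false

namespace H35L
open Cfsg
open scoped commutatorElement

variable {G : Type*} [Group G] {p : ℕ}

theorem emult_congr {K : Type*} [Group K] {χ : G → ℂ} {ψ : K → ℂ} {t : G} {s : K} {c : ℂ}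
    (h : ∀ j : ℕ, χ (t ^ j) = c * ψ (s ^ j)) (N : ℕ) (μ : ℂ) :
    emult χ t N μ = c * emult ψ s N μ := by
  simp only [emult, h, Finset.mul_sum, mul_assoc]

/-- Blichfeldt's theorem for one element whose normal closure acts homogeneously. -/
theorem scalar_of_homog [Finite G] {χ : G → ℂ} (hχ : IsCharacter G χ) {t : G}
    (hq : H31.IsHomog (Subgroup.normalClosure {t}) fun m => χ m) {N : ℕ} (hN : N ≠ 0)
    (ht : t ^ N = 1) {ω : ℂ} (hω : ω ^ N = 1)
    (h1 : ∀ μ, μ ^ N = 1 → emult χ t N μ ≠ 0 → ‖μ - ω‖ < 1) (h2 : emult χ t N ω ≠ 0) :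
    χ t = ω * χ 1 := by
  obtain ⟨θ, e, hθ, he⟩ := hq
  have he' : ∀ m : Subgroup.normalClosure {t}, χ m = e * θ m := fun m => congrFun he m
  have hc : ∀ {x}, IsConj t x → χ t = χ x := fun h => by
    obtain ⟨g, rfl⟩ := isConj_iff.1 h
    exact (H6.char_isClassFunction hχ _ _).symm
  have hem : ∀ x : Subgroup.normalClosure {t}, IsConj t x → ∀ μ,
      emult χ t N μ = e * emult θ x N μ := fun x hx μ => emult_congr (fun j => by
    obtain ⟨g, hg⟩ := isConj_iff.1 hx
    rw [← he', Subgroup.coe_pow, ← hg, conj_pow]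
    exact (H6.char_isClassFunction hχ _ _).symm) N μ
  have he0 : (e : ℂ) ≠ 0 := fun h =>
    h2 (by rw [hem ⟨t, Subgroup.subset_normalClosure rfl⟩ (IsConj.refl _), h, zero_mul])
  obtain ⟨x, hx, h⟩ := blichfeldt hθ {x | IsConj t x} (fun x hx g => hx.trans
      (isConj_iff.2 ⟨(g : G)⁻¹, by simp⟩)) (by
      refine Eq.trans ?_ (Subgroup.closure_preimage_eq_top (Group.conjugatesOfSet {t}))
      congr 1
      ext x
      exact ⟨fun h => Group.mem_conjugatesOfSet_iff.2 ⟨t, rfl, h⟩, fun h => by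
        obtain ⟨_, rfl, h⟩ := Group.mem_conjugatesOfSet_iff.1 h
        exact h⟩) hN
    (fun x hx => Subtype.ext (by
      obtain ⟨g, hg⟩ := isConj_iff.1 hx
      rw [Subgroup.coe_pow, ← hg, conj_pow, ht]; simp)) hω
    (fun x hx μ hμ h => h1 μ hμ (by rw [hem x hx]; exact mul_ne_zero he0 h))
    ⟨⟨t, Subgroup.subset_normalClosure rfl⟩, IsConj.refl _, fun h =>
      h2 (by rw [hem ⟨t, Subgroup.subset_normalClosure rfl⟩ (IsConj.refl _), h, mul_zero])⟩
  rw [hc hx, he', h, show χ 1 = e * θ 1 from he' 1]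
  ring

theorem char_commutator_of_small [Finite G] {η : G → ℂ} (hη : IsCharacter G η) {m : ℕ}
    (hm : η 1 = m) (h : ∀ d, d ∣ Nat.card G → d ≤ m → d = 1) {x : G} (hx : x ∈ commutator G) :
    η x = η 1 := by
  haveI := Fintype.ofFinite G
  refine H6.char_commutator_of_constituents hη (fun ψ hψ hne => ?_) hx
  obtain ⟨d, -, hd, hdd⟩ := H6.irr_one_dvd_card hψ
  have := H6.irr_one_le_of_inner_ne_zero hη hψ hne
  rw [hd, hm, Complex.natCast_re, Complex.natCast_re, Nat.cast_le] at this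
  rw [hd, h d hdd this, Nat.cast_one]

theorem eq_one_of_dvd_of_lt [Finite G] [hp : Fact p.Prime] (hG : IsPGroup p G) {d : ℕ}
    (hd : d ∣ Nat.card G) (h : d < p) : d = 1 := by
  obtain ⟨k, hk⟩ := hG.exists_card_eq
  obtain ⟨i, -, rfl⟩ := (Nat.dvd_prime_pow hp.out).1 (hk ▸ hd)
  rcases i with _ | i
  · rfl
  · exact absurd h (not_lt.2 (Nat.le_self_pow (Nat.succ_ne_zero i) p))

theorem exists_two_eig [Finite G] [hp : Fact p.Prime] (hG : IsPGroup p G) {χ : G → ℂ}
    (hχ : IsCharacter G χ) (hf : ∀ g, χ g = χ 1 → g = 1) {n : ℕ} (hn : χ 1 = n) (h2 : n < 2 * p)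
    (hab : ¬ ∀ a b : G, a * b = b * a) {ζ : ℂ} (hζ : ζ ^ p = 1) (hζ1 : ζ ≠ 1) :
    ∃ (t : G) (m : ℕ), t ≠ 1 ∧ t ^ p = 1 ∧ n = p + m ∧ ∀ j : ℕ, χ (t ^ j) = p * ζ ^ j + m := by
  haveI := Fintype.ofFinite G
  obtain ⟨θ, hθ, hne, h1⟩ : ∃ θ, IsIrrCharacter G θ ∧ classInner χ θ ≠ 0 ∧ θ 1 ≠ 1 := by
    by_contra h
    push Not at h
    exact hab (comm_of_linear_constituents hχ hf h)
  have hη := H6.isCharacter_sub_of_inner_ne_zero hχ hθ hne
  obtain ⟨m, hm⟩ := H6.char_one_nat hη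
  obtain ⟨d, -, hd, hdd⟩ := H6.irr_one_dvd_card hθ
  have hnd : n = d + m := by
    have := hm
    rw [Pi.sub_apply, hn, hd, sub_eq_iff_eq_add'] at this
    exact_mod_cast this
  have hdp : d = p := by
    obtain ⟨k, hk⟩ := hG.exists_card_eq
    obtain ⟨i, -, rfl⟩ := (Nat.dvd_prime_pow hp.out).1 (hk ▸ hdd)
    rcases i with _ | _ | i
    · simp at hd; exact absurd hd h1
    · simp
    · have := Nat.pow_le_pow_right hp.out.pos (show 2 ≤ i + 1 + 1 by omega)
      have := hp.out.two_le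
      nlinarith
  subst hdp
  obtain ⟨z, hz, hzc, hzo⟩ := H5.exists_mem_center_orderOf_eq hG (commutator G) fun h => hab
    fun a b => commutatorElement_eq_one_iff_mul_comm.1 (Subgroup.mem_bot.1 (h ▸
      Subgroup.commutator_mem_commutator (Subgroup.mem_top a) (Subgroup.mem_top b)))
  obtain ⟨ω, hω⟩ := H87.exists_mul_of_mem_center hθ hzc
  have hωj : ∀ j : ℕ, θ (z ^ j) = d * ω ^ j := fun j => by
    induction j with
    | zero => simp [hd]
    | succ j ih => rw [pow_succ', hω, ih]; ring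
  have hχj : ∀ j : ℕ, χ (z ^ j) = d * ω ^ j + m := fun j => by
    have := char_commutator_of_small hη hm
      (fun e he h => eq_one_of_dvd_of_lt hG he (by omega)) (pow_mem hz j)
    rw [hm, Pi.sub_apply, hωj] at this
    rw [← this]; ring
  have hd0 : (d : ℂ) ≠ 0 := Nat.cast_ne_zero.2 hp.out.ne_zero
  have hzp : z ^ d = 1 := hzo ▸ pow_orderOf_eq_one z
  have hωp : ω ^ d = 1 := by
    have := hωj d
    rw [hzp, hd] at this
    exact (mul_eq_left₀ hd0).1 this.symm
  have hω1 : ω ≠ 1 := by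
    rintro rfl
    have := hf z (by simpa [hn, hnd] using hχj 1)
    rw [this, orderOf_one] at hzo
    exact hp.out.one_lt.ne hzo
  have hprim : IsPrimitiveRoot ω d := by
    rw [← orderOf_eq_prime hωp hω1]; exact IsPrimitiveRoot.orderOf ω
  haveI : NeZero d := ⟨hp.out.ne_zero⟩
  obtain ⟨k, -, rfl⟩ := hprim.eq_pow_of_pow_eq_one hζ
  refine ⟨z ^ k, m, fun h => hζ1 ?_, by rw [← pow_mul, mul_comm, pow_mul, hzp, one_pow], hnd,
    fun j => by rw [← pow_mul, hχj, pow_mul]⟩
  have := hωj k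
  rw [h, hd] at this
  exact (mul_eq_left₀ hd0).1 this.symm

theorem comm_of_le_normalCore [Fintype G] {H : Subgroup G} {ψ : H → ℂ} (hψ : IsCharacter H ψ)
    (hf : ∀ g, indFun H ψ g = indFun H ψ 1 → g = 1) {m : ℕ} (hm : ψ 1 = m) {Q : Subgroup G}
    (hQ : Q ≤ H.normalCore) (h : ∀ d, d ∣ Nat.card Q → d ≤ m → d = 1) (a b : Q) :
    a * b = b * a := by
  refine Subtype.ext (commutatorElement_eq_one_iff_mul_comm.1 (hf _ ?_))
  rw [H7.indFun_apply, H7.indFun_apply]
  congr 1
  refine Finset.sum_congr rfl fun g _ => ?_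
  let f : Q →* H :=
    { toFun := fun x => ⟨g⁻¹ * x * g, H.normalCore_le
        ((inferInstance : H.normalCore.Normal).conj_mem' x (hQ x.2) g)⟩
      map_one' := Subtype.ext (by simp)
      map_mul' := fun x y => Subtype.ext (by simp [mul_assoc]) }
  have := char_commutator_of_small (H6.isCharacter_comp f hψ) (m := m) (by rw [map_one, hm]) h
    (Subgroup.commutator_mem_commutator (Subgroup.mem_top a) (Subgroup.mem_top b))
  exact (H7.extendByZero_coe _ _ (f ⁅a, b⁆)).trans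
    (this.trans (H7.extendByZero_coe _ _ (f 1)).symm)

theorem norm_exp_sub_one_lt (h7 : 7 ≤ p) : ‖Complex.exp (2 * Real.pi * Complex.I / p) - 1‖ < 1 := by
  have h : (7 : ℝ) ≤ p := by exact_mod_cast h7
  have e : 2 * Real.pi * Complex.I / p = Complex.I * (2 * Real.pi / p : ℝ) := by
    push_cast; ring
  rw [e]
  refine (Real.norm_exp_I_mul_ofReal_sub_one_le).trans_lt ?_
  rw [Real.norm_eq_abs, abs_of_pos (by positivity), div_lt_one (by positivity)]
  have := Real.pi_lt_d2
  linarith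

theorem not_sq_dvd_index [Finite G] [hp : Fact p.Prime] {χ : G → ℂ} (hχ : IsIrrCharacter G χ)
    (hf : ∀ g, χ g = χ 1 → g = 1) {n : ℕ} (hn : χ 1 = n) (h7 : 7 ≤ p) (h2 : n < 2 * p)
    (hnp : n ≠ p) (P : Sylow p G) (hab : ¬ ∀ a b : P, a * b = b * a) :
    ¬ p ^ 2 ∣ (pCore p G).index := by
  classical
  haveI := Fintype.ofFinite G
  have hχc := H6.irr_isCharacter hχ
  by_cases hprim : H31.Prim ⊥ χ
  · exfalso
    have hζ := Complex.isPrimitiveRoot_exp p hp.out.ne_zero
    obtain ⟨t, m, ht1, htp, hnm, ht⟩ := exists_two_eig P.isPGroup'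
      (H6.isCharacter_restrict (P : Subgroup G) hχc) (fun g hg => Subtype.ext (hf _ hg))
      (n := n) hn h2 hab hζ.pow_eq_one (hζ.ne_one hp.out.one_lt)
    set ζ := Complex.exp (2 * Real.pi * Complex.I / p) with hζ'
    have key : ∀ μ, μ ^ p = 1 → (emult χ t p μ ≠ 0 ↔
        ∃ i, Sum.elim (fun _ : Fin p => ζ) (fun _ : Fin m => (1 : ℂ)) i = μ) := fun μ hμ =>
      emult_ne_zero_iff hp.out.ne_zero (by rintro (i | i) <;> simp [hζ.pow_eq_one])
        (fun j => by simpa using ht j) hμ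
    refine ht1 (Subtype.ext (hf _ ?_))
    have := scalar_of_homog hχc (hprim.qprim hχ _ inferInstance bot_le) hp.out.ne_zero
      (t := t) (congrArg Subtype.val htp) (one_pow p) (fun μ hμ h => ?_)
      ((key 1 (one_pow p)).2 ⟨Sum.inr ⟨0, by omega⟩, rfl⟩)
    · rw [this, one_mul]
    · obtain ⟨i | i, rfl⟩ := (key μ hμ).1 h
      · exact norm_exp_sub_one_lt h7
      · simp
  simp only [H31.Prim, not_forall, not_not] at hprim
  obtain ⟨H, -, hH, ψ, hψ, rfl⟩ := hprim
  obtain ⟨m, hm⟩ := H6.char_one_nat hψ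
  have h1 : n = H.index * m := by
    have := H7.indFun_one H ψ
    rw [hn, hm] at this
    exact_mod_cast this
  have hr : 2 ≤ H.index := by
    have := Subgroup.FiniteIndex.index_ne_zero (H := H)
    have := mt Subgroup.index_eq_one.1 hH
    omega
  have hK := H31.index_normalCore_dvd_factorial H
  obtain ⟨n', hn0, hn'⟩ := H6.irr_one_pos hχ
  have hm0 : 0 < m := by
    rw [hn, Nat.cast_inj] at hn'
    rcases m with _ | m <;> simp_all
  by_cases hrp : H.index < p
  · refine absurd (comm_of_le_normalCore hψ hf hm (fun x hx => (PE.of_mem P.isPGroup' hx).mem_of_index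
      ((Nat.Prime.coprime_iff_not_dvd hp.out).2 fun h => ?_).symm)
      fun d hd h => eq_one_of_dvd_of_lt P.isPGroup' hd (by nlinarith)) hab
    exact absurd ((hp.out.dvd_factorial).1 (h.trans hK)) (not_le.2 hrp)
  have hc := comm_of_le_normalCore hψ hf hm le_rfl fun d hd h => by
    have := Nat.pos_of_dvd_of_pos hd Nat.card_pos
    have : m < 2 := by nlinarith
    omega
  obtain ⟨S⟩ : Nonempty (Sylow p H.normalCore) := inferInstance
  have hS := (pcl_of_comm hc).normal S
  haveI := S.characteristic_of_normal hS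
  intro h
  have h3 := h.trans (Subgroup.index_dvd_of_le
    (H1.le_pCore (S.isPGroup'.map H.normalCore.subtype)))
  rw [Subgroup.index_map_subtype] at h3
  have h4 := (((Nat.Prime.coprime_iff_not_dvd hp.out).2 S.not_dvd_index).pow_left 2
    |>.dvd_of_dvd_mul_left h3).trans hK
  have h5 : H.index < 2 * p := by nlinarith
  rw [hp.out.pow_dvd_factorial_iff (b := 2) (Nat.log_lt_of_lt_pow (by omega) (by nlinarith))] at h4
  simp only [Nat.Ico_succ_singleton, Finset.sum_singleton, pow_one] at h4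
  exact absurd h4 (not_le.2 (Nat.div_lt_of_lt_mul (by omega)))

end H35L
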