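import Mathlib
import Cfsg.Agent.Base
import Cfsg.Agent.Lib.Core.Wielandt

/-!
Flavell's generalisation of Wielandt's zipper lemma: a subgroup whose normal closure is the whole
group and which is subnormal in all but at most one of its maximal overgroups lies in at most one
maximal subgroup.
-/

set_option autoImplicit false

namespace H35L.Flav

open Subgroup
open scoped Pointwise

variable {G : Type*} [Group G]

/-- `X` is subnormal in `M`. -/
def Sn (X M : Subgroup G) : Prop := (X.subgroupOf M).IsSubnormal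

theorem Sn.conj {X M : Subgroup G} (h : Sn X M) (g : G) :
    Sn (MulAut.conj g • X) (MulAut.conj g • M) := H1.isSubnormal_subgroupOf_conj_smul h g

theorem Sn.of_conj {X M : Subgroup G} {g : G} (h : Sn (MulAut.conj g • X) (MulAut.conj g • M)) :
    Sn X M := by
  have := h.conj g⁻¹
  rwa [H1.conj_inv_smul_conj_smul, H1.conj_inv_smul_conj_smul] at this

theorem Sn.mono {X M V : Subgroup G} (h : Sn X M) (hV : V ≤ M) : Sn X V :=
  H1.isSubnormal_subgroupOf_of_le h hV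

theorem Sn.sup [Finite G] {X Y M : Subgroup G} (hX : Sn X M) (hY : Sn Y M) (hXM : X ≤ M)
    (hYM : Y ≤ M) : Sn (X ⊔ Y) M := by
  unfold Sn
  rw [subgroupOf_sup hXM hYM]
  exact H21.isSubnormal_sup hX hY

theorem Sn.trans {X V M : Subgroup G} (hXV : X ≤ V) (hVM : V ≤ M) (h1 : Sn X V) (h2 : Sn V M) :
    Sn X M := by
  refine Subgroup.IsSubnormal.trans (K := V.subgroupOf M) (fun x hx => hXV hx) ?_ h2
  exact (H1.isSubnormal_subgroupOf_subgroupOf_iff hVM).mpr h1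

theorem sn_of_le_normalizer {X V : Subgroup G} (hXV : X ≤ V) (h : V ≤ normalizer (X : Set G)) :
    Sn X V := ((normal_subgroupOf_iff_le_normalizer hXV).mpr h).isSubnormal

theorem sn_bot (M : Subgroup G) : Sn ⊥ M := by
  unfold Sn
  rw [bot_subgroupOf]
  exact Subgroup.IsSubnormal.bot

theorem sn_sSup [Finite G] {M : Subgroup G} (S : Set (Subgroup G))
    (hS : ∀ X ∈ S, X ≤ M ∧ Sn X M) : Sn (sSup S) M := by
  have hfin : S.Finite := Set.toFinite S
  induction S, hfin using Set.Finite.induction_on with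
  | empty => simpa using sn_bot M
  | insert _ _ ih =>
    rw [sSup_insert]
    refine Sn.sup (hS _ (Set.mem_insert _ _)).2 (ih fun X hX => hS X (Set.mem_insert_of_mem _ hX))
      (hS _ (Set.mem_insert _ _)).1 (sSup_le fun X hX => (hS X (Set.mem_insert_of_mem _ hX)).1)

theorem isCoatom_conj {M : Subgroup G} (hM : IsCoatom M) (g : G) :
    IsCoatom (MulAut.conj g • M) := by
  rw [H1.conj_smul_eq_map]
  exact (OrderIso.isCoatom_iff (MulAut.conj g).mapSubgroup M).mpr hM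

theorem conj_le_conj {X Y : Subgroup G} (h : X ≤ Y) (g : G) :
    MulAut.conj g • X ≤ MulAut.conj g • Y := pointwise_smul_le_pointwise_smul_iff.mpr h

theorem conj_eq_of_mem {M : Subgroup G} {g : G} (hg : g ∈ M) : MulAut.conj g • M = M :=
  H1.mem_normalizer_iff_conj_smul_eq.mp (le_normalizer hg)

theorem conj_le_of_mem {X M : Subgroup G} (h : X ≤ M) {g : G} (hg : g ∈ M) :
    MulAut.conj g • X ≤ M := by
  have := conj_le_conj h g
  rwa [conj_eq_of_mem hg] at this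

theorem eq_top_of_normal {X N : Subgroup G} (hX : normalClosure (X : Set G) = ⊤) (h : X ≤ N)
    [N.Normal] : N = ⊤ :=
  top_le_iff.mp (hX ▸ normalClosure_le_normal h)

theorem nc_conj {X : Subgroup G} (hX : normalClosure (X : Set G) = ⊤) (g : G) :
    normalClosure ((MulAut.conj g • X : Subgroup G) : Set G) = ⊤ := by
  refine eq_top_of_normal hX ?_
  have h1 : MulAut.conj g • X ≤ normalClosure ((MulAut.conj g • X : Subgroup G) : Set G) :=
    le_normalClosure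
  have := conj_le_conj h1 g⁻¹
  rwa [H1.conj_inv_smul_conj_smul, Subgroup.Normal.conj_smul_eq_self] at this

theorem nc_mono {X Y : Subgroup G} (hX : normalClosure (X : Set G) = ⊤) (h : X ≤ Y) :
    normalClosure (Y : Set G) = ⊤ := eq_top_of_normal hX (h.trans le_normalClosure)

theorem normalizer_ne_top {X W : Subgroup G} (hX : normalClosure (X : Set G) = ⊤) (h : X ≤ W)
    (hW : W ≠ ⊤) : normalizer (W : Set G) ≠ ⊤ := by
  intro ht
  haveI := normalizer_eq_top_iff.mp ht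
  exact hW (eq_top_of_normal hX h)

theorem normalizer_coatom {X M : Subgroup G} (hX : normalClosure (X : Set G) = ⊤)
    (hM : IsCoatom M) (h : X ≤ M) : normalizer (M : Set G) = M := by
  rcases (le_normalizer (H := M)).eq_or_lt with h1 | h1
  · exact h1.symm
  · exact absurd (hM.2 _ h1) (normalizer_ne_top hX h hM.1)

/-- The configuration of a minimal counterexample. -/
structure Cx (C : Set (Subgroup G)) (m : Subgroup G → Subgroup G) : Prop where
  conj : ∀ X ∈ C, ∀ g : G, MulAut.conj g • X ∈ C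
  nc : ∀ X ∈ C, normalClosure (X : Set G) = ⊤
  co : ∀ X ∈ C, IsCoatom (m X)
  le : ∀ X ∈ C, X ≤ m X
  nsn : ∀ X ∈ C, ¬ Sn X (m X)
  sn : ∀ X ∈ C, ∀ M, IsCoatom M → X ≤ M → M ≠ m X → Sn X M
  star : ∀ X ∈ C, ∀ Y ∈ C, X ≠ Y → ∀ M₁ M₂, IsCoatom M₁ → IsCoatom M₂ → M₁ ≠ M₂ →
    X ⊔ Y ≤ M₁ → X ⊔ Y ≤ M₂ → m X ≠ m Y ∧ X ≤ m Y

namespace Cx

variable {C : Set (Subgroup G)} {m : Subgroup G → Subgroup G}

theorem m_conj (h : Cx C m) {X : Subgroup G} (hX : X ∈ C) (g : G) :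
    m (MulAut.conj g • X) = MulAut.conj g • m X := by
  by_contra hne
  exact h.nsn X hX (h.sn _ (h.conj X hX g) _ (isCoatom_conj (h.co X hX) g)
    (conj_le_conj (h.le X hX) g) (Ne.symm hne)).of_conj

theorem m_conj_of_mem (h : Cx C m) {X : Subgroup G} (hX : X ∈ C) {g : G} (hg : g ∈ m X) :
    m (MulAut.conj g • X) = m X := by rw [h.m_conj hX, conj_eq_of_mem hg]

theorem normalizer_le (h : Cx C m) {X : Subgroup G} (hX : X ∈ C) :
    normalizer (X : Set G) ≤ m X := by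
  intro g hg
  rw [← normalizer_coatom (h.nc X hX) (h.co X hX) (h.le X hX), H1.mem_normalizer_iff_conj_smul_eq,
    ← h.m_conj hX, H1.mem_normalizer_iff_conj_smul_eq.mp hg]

/-- If `X^x` lies in a second maximal overgroup of `X`, with `x ∈ m X`, then `X^x = X`. -/
theorem conj_eq (h : Cx C m) {X M : Subgroup G} (hX : X ∈ C) (hM : IsCoatom M) (hXM : X ≤ M)
    (hne : M ≠ m X) {x : G} (hx : x ∈ m X) (hxM : MulAut.conj x • X ≤ M) :
    MulAut.conj x • X = X := by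
  by_contra hne'
  exact (h.star _ (h.conj X hX x) X hX hne' M (m X) hM (h.co X hX) hne (sup_le hxM hXM)
    (sup_le (conj_le_of_mem (h.le X hX) hx) (h.le X hX))).1 (h.m_conj_of_mem hX hx)

theorem inf_le_normalizer (h : Cx C m) {X M : Subgroup G} (hX : X ∈ C) (hM : IsCoatom M)
    (hXM : X ≤ M) (hne : M ≠ m X) : M ⊓ m X ≤ normalizer (X : Set G) := fun _ hx =>
  H1.mem_normalizer_iff_conj_smul_eq.mpr (h.conj_eq hX hM hXM hne hx.2 (conj_le_of_mem hXM hx.1))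

theorem exists_pair [Finite G] (h : Cx C m) {A M : Subgroup G} (hA : A ∈ C) (hM : IsCoatom M)
    (hAM : A ≤ M) (hne : M ≠ m A) : ∃ B ∈ C, B ≠ A ∧ B ≤ M ∧ B ≤ m A := by
  have hex : ∃ x ∈ M, MulAut.conj x • A ≠ A := by
    by_contra hno
    push Not at hno
    have h1 : M ≤ m A := fun x hx =>
      h.normalizer_le hA (H1.mem_normalizer_iff_conj_smul_eq.mpr (hno x hx))
    exact hne ((hM.le_iff.mp h1).resolve_left (h.co A hA).1).symm
  obtain ⟨x, hx, hxA⟩ := hex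
  obtain ⟨B, ⟨y, hy, rfl⟩, hB0, hBN⟩ := H21.exists_le_normalizer_sSup_rel M
    {B | ∃ y ∈ M, B = MulAut.conj y • A} {A}
    (by
      rintro _ ⟨y, hy, rfl⟩
      refine ⟨conj_le_of_mem hAM hy, ?_⟩
      have := (h.sn A hA M hM hAM hne).conj y
      rwa [conj_eq_of_mem hy] at this)
    (by
      rintro _ ⟨y, hy, rfl⟩ g hg
      exact ⟨g * y, M.mul_mem hg hy, H1.conj_smul_conj_smul _ _ _⟩)
    (by
      refine ⟨?_, fun hs => hxA (hs ⟨x, hx, rfl⟩)⟩
      rintro _ rfl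
      exact ⟨1, M.one_mem, by simp⟩)
  rw [sSup_singleton] at hBN
  exact ⟨_, h.conj A hA y, hB0, conj_le_of_mem hAM hy, hBN.trans (h.normalizer_le hA)⟩

theorem false [Finite G] (h : Cx C m) {A M : Subgroup G} (hA : A ∈ C) (hM : IsCoatom M)
    (hAM : A ≤ M) (hne : M ≠ m A) : False := by
  classical
  let K : Subgroup G × Subgroup G → Set (Subgroup G) := fun p => {X | X ∈ C ∧ X ≤ p.1 ∧ X ≤ p.2}
  obtain ⟨⟨M₁, M₂⟩, ⟨hM₁, hM₂, h12⟩, hmax⟩ := Set.exists_max_image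
    {p : Subgroup G × Subgroup G | IsCoatom p.1 ∧ IsCoatom p.2 ∧ p.1 ≠ p.2}
    (fun p => (K p).ncard) (Set.toFinite _) ⟨(M, m A), hM, h.co A hA, hne⟩
  set K₀ := K (M₁, M₂) with hK₀
  have hmax' : ∀ N₁ N₂, IsCoatom N₁ → IsCoatom N₂ → N₁ ≠ N₂ → K₀ ⊆ K (N₁, N₂) →
      K (N₁, N₂) ⊆ K₀ := fun N₁ N₂ h1 h2 h3 hs =>
    (Set.eq_of_subset_of_ncard_le hs (hmax (N₁, N₂) ⟨h1, h2, h3⟩) (Set.toFinite _)).symm.subset
  -- two members
  have htwo : ∃ Z ∈ K₀, ∃ Z' ∈ K₀, Z ≠ Z' := by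
    obtain ⟨B, hB, hBA, hBM, hBm⟩ := h.exists_pair hA hM hAM hne
    have h2 : 1 < (K (M, m A)).ncard :=
      (Set.one_lt_ncard (Set.toFinite _)).mpr ⟨B, ⟨hB, hBM, hBm⟩, A, ⟨hA, hAM, h.le A hA⟩, hBA⟩
    exact (Set.one_lt_ncard (Set.toFinite _)).mp (h2.trans_le (hmax (M, m A) ⟨hM, h.co A hA, hne⟩))
  have hst : ∀ Z ∈ K₀, ∀ Z' ∈ K₀, Z ≠ Z' → m Z ≠ m Z' ∧ Z ≤ m Z' := fun Z hZ Z' hZ' hne =>
    h.star Z hZ.1 Z' hZ'.1 hne M₁ M₂ hM₁ hM₂ h12 (sup_le hZ.2.1 hZ'.2.1) (sup_le hZ.2.2 hZ'.2.2)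
  have hle : ∀ Z ∈ K₀, ∀ Z' ∈ K₀, Z ≤ m Z' := fun Z hZ Z' hZ' => by
    by_cases hzz : Z = Z'
    · rw [hzz]; exact h.le Z' hZ'.1
    · exact (hst Z hZ Z' hZ' hzz).2
  have hnorm : ∀ Z ∈ K₀, ∀ Z' ∈ K₀, Z' ≤ normalizer (Z : Set G) := fun Z hZ Z' hZ' => by
    by_cases hzz : Z = Z'
    · rw [hzz]; exact le_normalizer
    · exact (le_inf (h.le Z' hZ'.1) (hle Z' hZ' Z hZ)).trans
        (h.inf_le_normalizer hZ.1 (h.co Z' hZ'.1) (hle Z hZ Z' hZ') (hst Z hZ Z' hZ' hzz).1.symm)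
  -- the key step
  have hE : ∀ Z ∈ K₀, ∀ Z' ∈ K₀, Z ≠ Z' → ∀ x ∈ m Z, MulAut.conj x⁻¹ • Z' ∈ K₀ →
      MulAut.conj x • Z = Z := fun Z hZ Z' hZ' hzz x hx hx' => by
    refine h.conj_eq hZ.1 (h.co Z' hZ'.1) (hle Z hZ Z' hZ') (hst Z hZ Z' hZ' hzz).1.symm hx ?_
    have h1 := conj_le_conj (hle Z hZ _ hx') x
    rwa [h.m_conj hZ'.1, H1.conj_smul_conj_inv_smul] at h1
  obtain ⟨Z₁, hZ₁, Z₂, hZ₂, hZ12⟩ := htwo
  have hWM : sSup K₀ ≤ M₁ := sSup_le fun X hX => hX.2.1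
  have hWtop : sSup K₀ ≠ ⊤ := fun ht => hM₁.1 (top_le_iff.mp (ht ▸ hWM))
  obtain ⟨Ms, hMs, hNM⟩ := (eq_top_or_exists_le_coatom (normalizer ((sSup K₀ : Subgroup G) : Set G))).resolve_left
    (normalizer_ne_top (h.nc Z₁ hZ₁.1) (le_sSup hZ₁) hWtop)
  have key : ∀ Z ∈ K₀, ∀ Z' ∈ K₀, Z ≠ Z' → Ms = m Z := by
    intro Z hZ Z' hZ' hzz
    let E : Set (Subgroup G) := {X | X ∈ C ∧ X ≤ m Z ∧ m X ≠ m Z}
    have hsub : K₀ \ {Z} ⊆ E := fun X hX =>
      ⟨hX.1.1, hle X hX.1 Z hZ, (hst X hX.1 Z hZ hX.2).1⟩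
    have hEc : ∀ U ∈ E, ∀ g ∈ m Z, MulAut.conj g • U ∈ E := fun U hU g hg =>
      ⟨h.conj U hU.1 g, conj_le_of_mem hU.2.1 hg, fun he => hU.2.2 (by
        rw [h.m_conj hU.1] at he
        rw [← H1.conj_inv_smul_conj_smul g (m U), he, conj_eq_of_mem (inv_mem hg)])⟩
    have hEs : ∀ U ∈ E, U ≤ m Z ∧ Sn U (m Z) := fun U hU =>
      ⟨hU.2.1, h.sn U hU.1 _ (h.co Z hZ.1) hU.2.1 hU.2.2.symm⟩
    have hZ'm : Z' ∈ K₀ \ {Z} := ⟨hZ', fun he => hzz (Set.mem_singleton_iff.mp he).symm⟩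
    have hss : K₀ \ {Z} ⊂ E := by
      refine ⟨hsub, fun hs => h.nsn Z hZ.1 (sn_of_le_normalizer (h.le Z hZ.1) fun x hx => ?_)⟩
      exact H1.mem_normalizer_iff_conj_smul_eq.mpr
        (hE Z hZ Z' hZ' hzz x hx (hs (hEc Z' (hsub hZ'm) x⁻¹ (inv_mem hx))).1)
    obtain ⟨D, hD, hD0, hDN⟩ := H21.exists_le_normalizer_sSup_rel (m Z) E (K₀ \ {Z}) hEs hEc hss
    set V : Subgroup G := sSup (K₀ \ {Z}) with hV
    have hVsn : Sn V (m Z) := sn_sSup _ fun X hX => hEs X (hsub hX)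
    have hVm : V ≤ m Z := sSup_le fun X hX => (hsub hX).2.1
    have hVN : V ≤ normalizer (Z : Set G) := sSup_le fun X hX => hnorm Z hZ X hX.1
    have hZV : ¬ Z ≤ V := fun hle' =>
      h.nsn Z hZ.1 (Sn.trans hle' hVm (sn_of_le_normalizer hle' hVN) hVsn)
    have hVW : V ≤ sSup K₀ := sSup_le_sSup Set.sdiff_subset
    have hin : ∀ X ∈ C, X ≤ V → X ∈ K₀ := fun X hX hXV =>
      ⟨hX, hXV.trans (hVW.trans hWM), hXV.trans (hVW.trans (sSup_le fun X hX => hX.2.2))⟩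
    have hDZ : D ≤ normalizer (Z : Set G) := fun x hx =>
      H1.mem_normalizer_iff_conj_smul_eq.mpr (hE Z hZ Z' hZ' hzz x (hD.2.1 hx)
        (hin _ (h.conj Z' hZ'.1 _)
          (H21.conj_smul_le_of_mem_normalizer (hDN (inv_mem hx)) (le_sSup hZ'm))))
    have hWeq : sSup K₀ = V ⊔ Z := by
      rw [hV, sup_comm, ← sSup_insert, Set.insert_sdiff_singleton, Set.insert_eq_of_mem hZ]
    have hDW : D ≤ normalizer ((sSup K₀ : Subgroup G) : Set G) := by
      rw [hWeq]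
      exact (le_inf hDN hDZ).trans (normalizer_inf_normalizer_le_normalizer_sup V Z)
    by_contra hne
    have h1 : K₀ ⊆ K (Ms, m Z) := fun X hX =>
      ⟨hX.1, (le_sSup hX).trans (le_normalizer.trans hNM), hle X hX Z hZ⟩
    have h2 : D ∈ K₀ := hmax' Ms (m Z) hMs (h.co Z hZ.1) hne h1 ⟨hD.1, hDW.trans hNM, hD.2.1⟩
    exact hD0 ⟨h2, fun he => hD.2.2 (by rw [Set.mem_singleton_iff.mp he])⟩
  exact (hst Z₁ hZ₁ Z₂ hZ₂ hZ12).1
    ((key Z₁ hZ₁ Z₂ hZ₂ hZ12).symm.trans (key Z₂ hZ₂ Z₁ hZ₁ hZ12.symm))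

end Cx

/-- **Flavell's zipper theorem.** -/
theorem flavell [Finite G] (A : Subgroup G) : ∀ M₀ : Subgroup G, normalClosure (A : Set G) = ⊤ →
    (∀ M, IsCoatom M → A ≤ M → M ≠ M₀ → Sn A M) →
      ∀ M₁ M₂, IsCoatom M₁ → IsCoatom M₂ → A ≤ M₁ → A ≤ M₂ → M₁ = M₂ := by
  classical
  induction A using WellFoundedGT.induction with
  | ind A ih =>
  intro M₀ hA hsn M₁ M₂ hM₁ hM₂ hA₁ hA₂
  by_contra h12
  have hAtop : A ≠ ⊤ := fun ht => hM₁.1 (top_le_iff.mp (ht ▸ hA₁))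
  -- `A` is not subnormal in `M₀`
  have h0 : IsCoatom M₀ ∧ A ≤ M₀ ∧ ¬ Sn A M₀ := by
    by_contra hno
    have hall : ∀ M, IsCoatom M → A ≤ M → Sn A M := fun M hM hAM => by
      by_cases he : M = M₀
      · subst he
        by_contra hn
        exact hno ⟨hM, hAM, hn⟩
      · exact hsn M hM hAM he
    obtain ⟨M, hMt, -, hMall⟩ := H1.zipper (A := A) (fun V hV hAV => by
      obtain ⟨M, hM, hVM⟩ := (eq_top_or_exists_le_coatom V).resolve_left hV
      exact (hall M hM (hAV.trans hVM)).mono hVM) (fun hs => by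
      obtain ⟨K, hK, hAK, hKt⟩ := hs.exists_normal_and_le_and_lt_top_of_ne hAtop
      exact hKt.ne (eq_top_of_normal hA hAK))
    exact h12 (((hM₁.le_iff.mp (hMall M₁ hM₁.1 hA₁)).resolve_left hMt).symm.trans
      ((hM₂.le_iff.mp (hMall M₂ hM₂.1 hA₂)).resolve_left hMt))
  let C : Set (Subgroup G) := {X | ∃ g : G, X = MulAut.conj g • A}
  have hex : ∀ X ∈ C, ∃ M, IsCoatom M ∧ X ≤ M ∧ ¬ Sn X M ∧
      ∀ M', IsCoatom M' → X ≤ M' → M' ≠ M → Sn X M' := by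
    rintro _ ⟨g, rfl⟩
    refine ⟨MulAut.conj g • M₀, isCoatom_conj h0.1 g, conj_le_conj h0.2.1 g,
      fun hs => h0.2.2 hs.of_conj, fun M' hM' hle hne => ?_⟩
    have h1 := conj_le_conj hle g⁻¹
    rw [H1.conj_inv_smul_conj_smul] at h1
    have := (hsn _ (isCoatom_conj hM' g⁻¹) h1 (fun he => hne (by
      rw [← he, H1.conj_smul_conj_inv_smul]))).conj g
    rwa [H1.conj_smul_conj_inv_smul] at this
  choose! m hm using hex
  have hconj : ∀ X ∈ C, ∀ g : G, MulAut.conj g • X ∈ C := by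
    rintro _ ⟨x, rfl⟩ g
    exact ⟨g * x, H1.conj_smul_conj_smul _ _ _⟩
  have hnc : ∀ X ∈ C, normalClosure (X : Set G) = ⊤ := by
    rintro _ ⟨x, rfl⟩
    exact nc_conj hA x
  have hcx : Cx C m := by
    refine ⟨hconj, hnc, fun X hX => (hm X hX).1, fun X hX => (hm X hX).2.1,
      fun X hX => (hm X hX).2.2.1, fun X hX => (hm X hX).2.2.2, ?_⟩
    intro X hX Y hY hXY N₁ N₂ hN₁ hN₂ hN12 h1 h2
    obtain ⟨g, hg⟩ := id hX
    have hcard : Nat.card X = Nat.card Y := by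
      obtain ⟨y, hy⟩ := hY
      rw [hg, hy, H1.card_conj_smul, H1.card_conj_smul]
    have hlt : X < X ⊔ Y := by
      refine lt_of_le_of_ne le_sup_left fun he => hXY ?_
      have hYX : Y ≤ X := he ▸ le_sup_right
      exact (Subgroup.eq_of_le_of_card_ge hYX hcard.le).symm
    have hlt' : A < MulAut.conj g⁻¹ • (X ⊔ Y) := by
      rw [← H1.conj_inv_smul_conj_smul g A, ← hg]
      exact lt_of_le_of_ne (conj_le_conj hlt.le _) fun he => hlt.ne (smul_left_cancel _ he)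
    have hno : ∃ M, IsCoatom M ∧ X ⊔ Y ≤ M ∧ M ≠ m X ∧ ¬ Sn (X ⊔ Y) M := by
      by_contra hno
      push Not at hno
      refine hN12 (smul_left_cancel (MulAut.conj g⁻¹) ?_)
      refine ih _ hlt' (MulAut.conj g⁻¹ • m X) (nc_mono hA hlt'.le) (fun M hM hle hne => ?_) _ _
        (isCoatom_conj hN₁ _) (isCoatom_conj hN₂ _) (conj_le_conj h1 _) (conj_le_conj h2 _)
      have h3 := conj_le_conj hle g
      rw [H1.conj_smul_conj_inv_smul] at h3
      have := (hno _ (isCoatom_conj hM g) h3 (fun he => hne (by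
        rw [← he, H1.conj_inv_smul_conj_smul]))).conj g⁻¹
      rwa [H1.conj_inv_smul_conj_smul] at this
    obtain ⟨M, hM, hle, hne, hns⟩ := hno
    have hMY : M = m Y := by
      by_contra hne'
      exact hns (Sn.sup ((hm X hX).2.2.2 M hM (le_sup_left.trans hle) hne)
        ((hm Y hY).2.2.2 M hM (le_sup_right.trans hle) hne') (le_sup_left.trans hle)
        (le_sup_right.trans hle))
    subst hMY
    exact ⟨hne.symm, le_sup_left.trans hle⟩
  have hAC : A ∈ C := ⟨1, by simp⟩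
  by_cases he : M₁ = m A
  · exact hcx.false hAC hM₂ hA₂ fun h2 => h12 (he.trans h2.symm)
  · exact hcx.false hAC hM₁ hA₁ he

/-- `A^H = H`, in ambient form. -/
theorem nc_subgroupOf_iff {A H : Subgroup G} (hAH : A ≤ H) :
    normalClosure ((A.subgroupOf H : Subgroup H) : Set H) = ⊤ ↔
      ∀ N : Subgroup G, A ≤ N → N ≤ H → H ≤ normalizer (N : Set G) → H ≤ N := by
  constructor
  · intro h N hAN hNH hHN
    haveI := (normal_subgroupOf_iff_le_normalizer hNH).mpr hHN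
    have := eq_top_of_normal (N := N.subgroupOf H) h (fun x hx => hAN hx)
    exact subgroupOf_eq_top.mp this
  · intro h
    set N := normalClosure ((A.subgroupOf H : Subgroup H) : Set H) with hN
    have h1 := h (N.map H.subtype) (fun a ha => ⟨⟨a, hAH ha⟩, subset_normalClosure ha, rfl⟩)
      (map_subtype_le _) (by
        rw [← normal_subgroupOf_iff_le_normalizer (map_subtype_le _), subgroupOf,
          comap_map_eq_self_of_injective H.subtype_injective]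
        infer_instance)
    rw [eq_top_iff]
    intro x _
    obtain ⟨y, hy, hyx⟩ := h1 x.2
    rwa [show y = x from Subtype.ext hyx] at hy

/-- **Guralnick--Tracey** generalised zipper lemma. -/
theorem gt_zipper [Finite G] (A : Subgroup G) : normalClosure (A : Set G) = ⊤ → A ≠ ⊤ →
    sSup {H : Subgroup G | A ≤ H ∧ H ≠ ⊤ ∧
      normalClosure ((A.subgroupOf H : Subgroup H) : Set H) = ⊤} ≠ ⊤ →
      ∃! M : Subgroup G, IsCoatom M ∧ A ≤ M := by
  induction A using WellFoundedGT.induction with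
  | ind A ih =>
  intro hA hAt hY
  obtain ⟨M₀, hM₀, hYM⟩ := (eq_top_or_exists_le_coatom _).resolve_left hY
  have hAM₀ : A ≤ M₀ := (le_sSup (s := {H : Subgroup G | A ≤ H ∧ H ≠ ⊤ ∧
      normalClosure ((A.subgroupOf H : Subgroup H) : Set H) = ⊤})
    ⟨le_rfl, hAt, (nc_subgroupOf_iff le_rfl).mpr fun N h _ _ => h⟩).trans hYM
  refine ⟨M₀, ⟨hM₀, hAM₀⟩, fun M hM => flavell A M₀ hA (fun M hM hAM hne => ?_) M M₀ hM.1 hM₀ hM.2 hAM₀⟩
  obtain ⟨D, ⟨hAD, hDM, hDs⟩, hmin⟩ := (wellFounded_lt (α := Subgroup G)).has_min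
    {D | A ≤ D ∧ D ≤ M ∧ Sn D M} ⟨M, hAM, le_rfl, sn_of_le_normalizer le_rfl le_normalizer⟩
  have hD : ∀ N : Subgroup G, A ≤ N → N ≤ D → D ≤ normalizer (N : Set G) → D ≤ N := by
    intro N hAN hND hDN
    by_contra hn
    exact hmin N ⟨hAN, hND.trans hDM, Sn.trans hND hDM (sn_of_le_normalizer hND hDN) hDs⟩
      (lt_of_le_of_ne hND fun he => hn he.ge)
  have hDt : D ≠ ⊤ := fun ht => hM.1 (top_le_iff.mp (ht ▸ hDM))
  rcases hAD.eq_or_lt with he | hlt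
  · rwa [he]
  · exfalso
    have hDM₀ : D ≤ M₀ := (le_sSup (s := {H : Subgroup G | A ≤ H ∧ H ≠ ⊤ ∧
      normalClosure ((A.subgroupOf H : Subgroup H) : Set H) = ⊤})
      ⟨hAD, hDt, (nc_subgroupOf_iff hAD).mpr hD⟩).trans hYM
    obtain ⟨M', -, huniq⟩ := ih D hlt (nc_mono hA hAD) hDt (fun ht => hY (top_le_iff.mp
      (ht.ge.trans (sSup_le_sSup fun H hH => ⟨hAD.trans hH.1, hH.2.1,
        (nc_subgroupOf_iff (hAD.trans hH.1)).mpr
        fun N hAN hNH hHN => (nc_subgroupOf_iff hH.1).mp hH.2.2 N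
          ((hD (D ⊓ N) (le_inf hAD hAN) inf_le_left ((le_inf le_normalizer (hH.1.trans hHN)).trans
            inf_normalizer_le_normalizer_inf)).trans inf_le_right) hNH hHN⟩))))
    exact hne ((huniq M ⟨hM, hDM⟩).trans (huniq M₀ ⟨hM₀, hDM₀⟩).symm)

end H35L.Flav
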