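import Mathlib
import Cfsg.Agent.Base
import Cfsg.Agent.Lib.Deg.FS3
import Cfsg.Agent.Lib.Deg.Struct
import Cfsg.Agent.Lib.PGroup.Basic
import Cfsg.Agent.Lib.FGS.CyclicAux

/-! `p`-groups whose nonlinear characters of equal degree are Galois conjugate. -/

set_option autoImplicit false
set_option linter.style.haveILetI false

namespace H35L
open Cfsg H87
open scoped commutatorElement

universe u
variable {G : Type*} [Group G] {p : ℕ}

def GC (G : Type*) [Group G] : Prop := ∀ χ ψ : IrrCharacter G, charDegree (χ : G → ℂ) ≠ 1 →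
  charDegree (χ : G → ℂ) = charDegree (ψ : G → ℂ) →
    ∃ k : ℕ, k.Coprime (Nat.card G) ∧ ∀ g, (ψ : G → ℂ) g = (χ : G → ℂ) (g ^ k)

theorem GC.quot [Finite G] (h : GC G) (N : Subgroup G) [N.Normal] : GC (G ⧸ N) := fun χ ψ h1 h2 => by
  obtain ⟨k, hk, e⟩ := h ⟨_, isIrr_infl N χ.2⟩ ⟨_, isIrr_infl N ψ.2⟩ h1 h2
  refine ⟨k, hk.coprime_dvd_right (Subgroup.card_quotient_dvd_card N), fun g => ?_⟩
  obtain ⟨g, rfl⟩ := QuotientGroup.mk_surjective g
  exact e g

theorem GC.ker_le_ker [Finite G] (h : GC G) {χ ψ : G → ℂ} (hχ : IsIrrCharacter G χ)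
    (hψ : IsIrrCharacter G ψ) (h1 : charDegree χ ≠ 1) (h2 : charDegree χ = charDegree ψ) :
    H6.charKer χ ≤ H6.charKer ψ := fun x hx _ => by
  obtain ⟨k, -, e⟩ := h ⟨χ, hχ⟩ ⟨ψ, hψ⟩ h1 h2
  exact (e x).trans ((pow_mem hx k (H6.irr_isCharacter hχ)).trans
    ((congrArg χ (one_pow k).symm).trans (e 1).symm))

theorem GC.ker_le [Finite G] (h : GC G) {χ : G → ℂ} (hχ : IsIrrCharacter G χ)
    (h1 : charDegree χ ≠ 1) : H6.charKer χ ≤ commutator G := fun x hx => by
  by_contra hc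
  obtain ⟨lam, -, hl⟩ := exists_hom_trivial_ne_one _ le_rfl hc
  have h2 := H6.isIrrCharacter_mul_hom hχ lam
  have := h.ker_le_ker hχ h2 h1 (deg_mul_hom lam).symm hx (H6.irr_isCharacter h2)
  simp only [hx (H6.irr_isCharacter hχ), map_one, Units.val_one, mul_one,
    mul_eq_left₀ (H6.irr_one_ne_zero hχ), Units.val_eq_one] at this
  exact hl this

theorem exists_central_hom [Finite G] {χ : G → ℂ} (hχ : IsIrrCharacter G χ) :
    ∃ lam : Subgroup.center G →* ℂ, ∀ z : Subgroup.center G, χ z = lam z * χ 1 := by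
  choose ω hω using fun z : Subgroup.center G => exists_mul_of_mem_center hχ z.2
  have h1 : ∀ z : Subgroup.center G, χ z = ω z * χ 1 := fun z => by rw [← hω, mul_one]
  have h0 := H6.irr_one_ne_zero hχ
  exact ⟨⟨⟨ω, (mul_eq_right₀ h0).1 (h1 1).symm⟩, fun a b => mul_right_cancel₀ h0 (by
    simp only [← h1, Subgroup.coe_mul, hω, mul_assoc])⟩, h1⟩

theorem exists_central_hom_inj [Finite G] {χ : G → ℂ} (hχ : IsIrrCharacter G χ)
    (hf : H6.charKer χ = ⊥) : ∃ lam : Subgroup.center G →* ℂ, Function.Injective lam ∧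
      ∀ z : Subgroup.center G, χ z = lam z * χ 1 := by
  obtain ⟨lam, h⟩ := exists_central_hom hχ
  exact ⟨lam, (injective_iff_map_eq_one lam).2 fun z hz => Subtype.ext (Subgroup.mem_bot.1
    (hf ▸ fun _ => by rw [h, hz, one_mul])), h⟩

theorem isCyclic_center_of_faithful [Finite G] {χ : G → ℂ} (hχ : IsIrrCharacter G χ)
    (hf : H6.charKer χ = ⊥) : IsCyclic (Subgroup.center G) := by
  obtain ⟨lam, h, -⟩ := exists_central_hom_inj hχ hf
  exact isCyclic_of_injective_ringHom lam h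

theorem pow_mem_center {x : G} {n : ℕ} (h : ∀ y, ⁅x, y⁆ ∈ Subgroup.center G ∧ ⁅x, y⁆ ^ n = 1) :
    x ^ n ∈ Subgroup.center G := Subgroup.mem_center_iff.2 fun y => by
  have key : ∀ k : ℕ, x ^ k * y = ⁅x, y⁆ ^ k * y * x ^ k := fun k => by
    induction k with
    | zero => simp
    | succ k ih =>
      have := Subgroup.mem_center_iff.1 (pow_mem (h y).1 k) x
      rw [pow_succ', mul_assoc, ih, ← mul_assoc, ← mul_assoc, this, pow_succ]
      simp [commutatorElement_def, mul_assoc]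
  rw [key, (h y).2, one_mul]

section
variable [Finite G] [hp : Fact p.Prime]

theorem commutator_le_of_card (hc : Nat.card (commutator G) = p) {N : Subgroup G} {z : G}
    (hz : z ∈ commutator G) (h1 : z ≠ 1) (hN : z ∈ N) : commutator G ≤ N := by
  haveI := Fact.mk (hc ▸ hp.out)
  rcases (N.subgroupOf (commutator G)).eq_bot_or_eq_top_of_prime_card with h | h
  · exact absurd (congrArg Subtype.val (Subgroup.mem_bot.1 (h ▸ hN : (⟨z, hz⟩ : commutator G) ∈ ⊥))) h1
  · exact Subgroup.subgroupOf_eq_top.1 h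

theorem commutator_le_center_of_card (hG : IsPGroup p G) (hc : Nat.card (commutator G) = p) :
    commutator G ≤ Subgroup.center G := by
  obtain ⟨z, h1, h2, h3⟩ := H5.exists_mem_center_orderOf_eq hG (commutator G) fun h =>
    hp.out.one_lt.ne (by rw [← hc, h, Subgroup.card_bot])
  exact commutator_le_of_card hc h1 (fun h => hp.out.one_lt.ne (by rw [← h3, h, orderOf_one])) h2

theorem vanish_of_card (hG : IsPGroup p G) (hc : Nat.card (commutator G) = p) {χ : G → ℂ}
    (hχ : IsIrrCharacter G χ) (h1 : charDegree χ ≠ 1) (g : G) (hg : g ∉ Subgroup.center G) :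
    χ g = 0 := by
  obtain ⟨y, hy⟩ := not_forall.1 (mt Subgroup.mem_center_iff.2 hg)
  have hz : ⁅y, g⁆ ∈ commutator G :=
    Subgroup.commutator_mem_commutator (Subgroup.mem_top _) (Subgroup.mem_top _)
  obtain ⟨ω, hω⟩ := exists_mul_of_mem_center hχ (commutator_le_center_of_card hG hc hz)
  have h2 := hω g
  rw [commutatorElement_def, inv_mul_cancel_right,
    H6.char_isClassFunction (H6.irr_isCharacter hχ)] at h2
  by_contra h0
  refine h1 (deg_eq_one_of_commutator_le hχ (commutator_le_of_card hc hz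
    (mt commutatorElement_eq_one_iff_mul_comm.1 hy) fun _ => ?_))
  have := hω 1
  rwa [mul_one, (mul_eq_right₀ h0).1 h2.symm, one_mul] at this

theorem GC.faithful (h : GC G) (hc : Nat.card (commutator G) = p) {χ : G → ℂ}
    (hχ : IsIrrCharacter G χ) (h1 : charDegree χ ≠ 1) : H6.charKer χ = ⊥ :=
  eq_bot_iff.2 fun x hx => by
    by_contra h2
    exact h1 (deg_eq_one_of_commutator_le hχ (commutator_le_of_card hc (h.ker_le hχ h1 hx) h2 hx))

theorem gc_of_cyclic (hG : IsPGroup p G) (hZ : IsCyclic (Subgroup.center G))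
    (hc : Nat.card (commutator G) = p) : GC G := fun χ ψ h1 h2 => by
  have hle := commutator_le_center_of_card hG hc
  have hf : ∀ χ : G → ℂ, IsIrrCharacter G χ → charDegree χ ≠ 1 → H6.charKer χ = ⊥ :=
    fun χ hχ h1 => by
      by_contra h
      obtain ⟨z, h3, h4, h5⟩ := H5.exists_mem_center_orderOf_eq hG _ h
      refine h1 (deg_eq_one_of_commutator_le hχ ((H80.le_of_card_dvd_of_le_isCyclic hZ hle
        (Subgroup.zpowers_le.2 h4) ?_).trans (Subgroup.zpowers_le.2 h3)))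
      rw [hc, Nat.card_zpowers, h5]
  obtain ⟨l, hl, hl'⟩ := exists_central_hom_inj χ.2 (hf _ χ.2 h1)
  obtain ⟨m, hm, hm'⟩ := exists_central_hom_inj ψ.2 (hf _ ψ.2 (h2 ▸ h1))
  obtain ⟨z, hz⟩ := IsCyclic.exists_monoid_generator (α := Subgroup.center G)
  haveI : NeZero (orderOf z) := ⟨(orderOf_pos z).ne'⟩
  obtain ⟨k, -, hk, e⟩ := (orderOf_injective l hl z ▸ IsPrimitiveRoot.orderOf (l z)
    ).isPrimitiveRoot_iff.1 (orderOf_injective m hm z ▸ IsPrimitiveRoot.orderOf (m z))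
  have hk' : k.Coprime (Nat.card G) := by
    obtain ⟨n, hn⟩ := hG.exists_card_eq
    refine hn ▸ Nat.Coprime.pow_right n (hk.coprime_dvd_right ?_)
    rw [orderOf_eq_card_of_forall_mem_powers hz, ← hc]
    exact Subgroup.card_dvd_of_le hle
  refine ⟨k, hk', fun g => ?_⟩
  by_cases hg : g ∈ Subgroup.center G
  · obtain ⟨n, hn⟩ := hz ⟨g, hg⟩
    have := hl' (⟨g, hg⟩ ^ k)
    rw [show (χ : G → ℂ) (g ^ k) = _ from this, show (ψ : G → ℂ) g = _ from hm' ⟨g, hg⟩, ← hn,
      ← deg_cast', ← deg_cast', h2, map_pow, map_pow, map_pow, ← e, pow_right_comm]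
  · rw [vanish_of_card hG hc ψ.2 (h2 ▸ h1) g hg, vanish_of_card hG hc χ.2 h1]
    intro h
    obtain ⟨j, hj⟩ := exists_pow_eq_self_of_coprime (hk'.coprime_dvd_right (orderOf_dvd_natCard g))
    exact hg (hj ▸ pow_mem h j)

theorem GC.card_le (h : GC G) (hpG : p ∣ Nat.card G) {w : ℕ} (hw : ∀ x : G, x ^ p ^ (w + 1) = 1)
    (D : Finset (IrrCharacter G)) {d : ℕ} (hd : d ≠ 1) (hD : ∀ χ ∈ D, charDegree (χ : G → ℂ) = d) :
    D.card ≤ p ^ w * (p - 1) := by
  classical
  rcases D.eq_empty_or_nonempty with rfl | ⟨χ, hχ⟩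
  · simp
  rw [← Nat.totient_prime_pow_succ hp.out, Nat.totient_eq_card_coprime,
    ← Finset.card_image_of_injective D Subtype.val_injective]
  refine (Finset.card_le_card fun ψ hψ => ?_).trans
    (Finset.card_image_le (f := fun k g => (χ : G → ℂ) (g ^ k)))
  obtain ⟨ψ, hψ', rfl⟩ := Finset.mem_image.1 hψ
  obtain ⟨k, hk, e⟩ := h χ ψ (hD χ hχ ▸ hd) ((hD χ hχ).trans (hD ψ hψ').symm)
  refine Finset.mem_image.2 ⟨k % p ^ (w + 1), Finset.mem_filter.2 ⟨Finset.mem_range.2
    (Nat.mod_lt _ (pow_pos hp.out.pos _)), ?_⟩, funext fun g => ?_⟩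
  · rw [Nat.Coprime, Nat.gcd_comm, ← Nat.gcd_rec]
    exact (hk.coprime_dvd_right hpG).symm.pow_left _
  · rw [e, ← pow_eq_pow_mod k (hw g)]

end

theorem mul_sum_lt (hp : 2 ≤ p) (m : ℕ) : p * ∑ r ∈ Finset.range m, (p ^ r) ^ 2 < (p ^ m) ^ 2 := by
  induction m with
  | zero => simp
  | succ m ih =>
    rw [Finset.sum_range_succ, mul_add, pow_succ p m, mul_pow]
    have : (p + 1) * (p ^ m) ^ 2 ≤ p ^ 2 * (p ^ m) ^ 2 := Nat.mul_le_mul_right _ (by nlinarith)
    linarith

theorem GC.card_commutator [hp : Fact p.Prime] (n : ℕ) : ∀ (G : Type u) [Group G] [Finite G],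
    Nat.card G = n → IsPGroup p G → GC G → commutator G ≠ ⊥ → Nat.card (commutator G) = p := by
  induction n using Nat.strong_induction_on with
  | _ n ih =>
  intro G _ _ hn hG h hna
  classical
  obtain ⟨z, hz, hzc, hzo⟩ := H5.exists_mem_center_orderOf_eq hG _ hna
  set N := Subgroup.zpowers z with hN
  have hNZ : N ≤ Subgroup.center G := Subgroup.zpowers_le.2 hzc
  haveI : N.Normal := ⟨fun a ha g => by
    rwa [Subgroup.mem_center_iff.1 (hNZ ha) g, mul_inv_cancel_right]⟩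
  have hNp : Nat.card N = p := by rw [Nat.card_zpowers, hzo]
  by_contra hc
  have hQ : commutator (G ⧸ N) ≠ ⊥ := fun e => hc (by
    rw [← hNp, le_antisymm (b := N) ?_ (Subgroup.zpowers_le.2 hz)]
    rw [← QuotientGroup.ker_mk' N, ← Subgroup.map_eq_bot_iff, map_commutator_eq, eq_bot_iff, ← e]
    exact Subgroup.commutator_mono le_top le_top)
  have hi : N.index * p = Nat.card G := hNp ▸ N.index_mul_card
  have hQp := hG.to_quotient N
  have hQc := ih _ (by
    rw [← hn, ← hi]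
    exact lt_mul_of_one_lt_right Nat.card_pos hp.out.one_lt) (G ⧸ N) rfl hQp (h.quot N) hQ
  obtain ⟨θ, hθ, hθ1⟩ := exists_irr_not_le_charKer hQ
  replace hθ1 := mt (commutator_le_charKer_of_deg_one (H6.irr_isCharacter hθ)) hθ1
  obtain ⟨w, hw⟩ := (isCyclic_center_of_faithful hθ ((h.quot N).faithful hQc hθ hθ1)).exists_generator
  obtain ⟨m, hm⟩ := deg_pow_of_isPGroup hQp hθ
  set W := (Subgroup.center (G ⧸ N)).comap (QuotientGroup.mk' N) with hW
  have hWi : (p ^ m) ^ 2 = W.index := by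
    rw [hW, Subgroup.index_comap_of_surjective _ (QuotientGroup.mk'_surjective N), ← hm]
    exact deg_sq_eq_index hθ (fun z hz => norm_eq_of_mem_center hθ hz)
      (vanish_of_card hQp hQc hθ hθ1)
  have hZW : Subgroup.center G ≤ W := fun a ha => Subgroup.mem_center_iff.2 fun g => by
    obtain ⟨g, rfl⟩ := QuotientGroup.mk'_surjective N g
    rw [← map_mul, ← map_mul, Subgroup.mem_center_iff.1 ha]
  have hrel : (Subgroup.center G).relIndex W ≤ p := by
    obtain ⟨⟨w, hw0⟩, hw⟩ : ∃ w : Subgroup.center (G ⧸ N), ∀ x, x ∈ Subgroup.zpowers w := ⟨w, hw⟩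
    obtain ⟨w, rfl⟩ := QuotientGroup.mk'_surjective N w
    have h1 : W.map (QuotientGroup.mk' (Subgroup.center G)) ≤
        Subgroup.zpowers (QuotientGroup.mk' _ w) := by
      rintro _ ⟨a, ha, rfl⟩
      obtain ⟨k, hk⟩ := hw ⟨_, ha⟩
      refine ⟨k, ?_⟩
      have : QuotientGroup.mk' N (w ^ k) = QuotientGroup.mk' N a :=
        (map_zpow _ _ _).trans (congrArg Subtype.val hk)
      exact (map_zpow _ _ _).symm.trans (QuotientGroup.eq.2 (hNZ (QuotientGroup.eq.1 this)))
    have h2 : w ^ p ∈ Subgroup.center G := pow_mem_center fun y => by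
      have : ⁅w, y⁆ ∈ N := by
        rw [← QuotientGroup.eq_one_iff]
        exact (map_commutatorElement (QuotientGroup.mk' N) w y).trans
          (commutatorElement_eq_one_iff_mul_comm.2 (Subgroup.mem_center_iff.1 hw0 _).symm)
      exact ⟨hNZ this, congrArg Subtype.val (hNp ▸ pow_card_eq_one' (x := (⟨_, this⟩ : N)))⟩
    conv_lhs => rw [← QuotientGroup.ker_mk' (Subgroup.center G), Subgroup.relIndex_ker]
    refine (Subgroup.card_le_of_le h1).trans ?_
    rw [Nat.card_zpowers]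
    exact orderOf_le_of_pow_eq_one hp.out.pos
      ((map_pow _ _ _).symm.trans ((QuotientGroup.eq_one_iff _).2 h2))
  obtain ⟨v, hv⟩ := (hG.to_subgroup W).exists_card_eq
  have hexp : ∀ x : G, x ^ p ^ (v + 1) = 1 := fun x => by
    have : x ^ p ∈ W := by
      rw [hW, Subgroup.mem_comap, map_pow]
      refine pow_mem_center fun y => ?_
      have := Subgroup.commutator_mem_commutator (Subgroup.mem_top (QuotientGroup.mk' N x))
        (Subgroup.mem_top y)
      exact ⟨commutator_le_center_of_card hQp hQc this,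
        congrArg Subtype.val (hQc ▸ pow_card_eq_one' (x := (⟨_, this⟩ : commutator (G ⧸ N))))⟩
    rw [pow_succ', pow_mul, ← hv]
    exact congrArg Subtype.val (pow_card_eq_one' (x := (⟨_, this⟩ : W)))
  have hsum := sum_deg_sq_not_ker N
  set D := Finset.univ.filter fun χ : IrrCharacter G => ¬ N ≤ H6.charKer (χ : G → ℂ) with hD
  have hD1 : ∀ χ ∈ D, charDegree (χ : G → ℂ) ≠ 1 := fun χ hχ e => (Finset.mem_filter.1 hχ).2
    ((Subgroup.zpowers_le.2 hz).trans (commutator_le_charKer_of_deg_one (H6.irr_isCharacter χ.2) e))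
  choose r hr using fun χ : IrrCharacter G => deg_pow_of_isPGroup hG χ.2
  have hrm : ∀ χ ∈ D, r χ ∈ Finset.range m := fun χ hχ => by
    have h1 := deg_sq_le_index χ.2 fun z hz => norm_eq_of_mem_center χ.2 hz
    rw [← Subgroup.relIndex_mul_index hZW, ← hWi, hr] at h1
    have h2 : r χ * 2 ≤ m * 2 + 1 := by
      rw [← Nat.pow_le_pow_iff_right hp.out.one_lt, pow_succ', pow_mul, pow_mul]
      exact h1.trans (Nat.mul_le_mul_right _ hrel)
    have h3 : r χ ≠ m := fun e => (Finset.mem_filter.1 hχ).2 ((le_charKer_infl N θ).trans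
      (h.ker_le_ker (isIrr_infl N hθ) χ.2 hθ1 (by rw [hr, e]; exact hm)))
    exact Finset.mem_range.2 (by omega)
  have hle : ∑ χ ∈ D, charDegree (χ : G → ℂ) ^ 2 ≤
      p ^ v * (p - 1) * ∑ j ∈ Finset.range m, (p ^ j) ^ 2 := by
    rw [← Finset.sum_fiberwise_of_maps_to hrm, Finset.mul_sum]
    refine Finset.sum_le_sum fun j _ => ?_
    have e : ∀ χ ∈ D.filter (r · = j), charDegree (χ : G → ℂ) = p ^ j := fun χ hχ => by
      rw [hr, (Finset.mem_filter.1 hχ).2]
    rw [Finset.sum_congr rfl fun χ hχ => by rw [e χ hχ], Finset.sum_const, smul_eq_mul]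
    rcases (D.filter (r · = j)).eq_empty_or_nonempty with h0 | ⟨χ, hχ⟩
    · simp [h0]
    · exact Nat.mul_le_mul_right _ (h.card_le ⟨_, hi.symm.trans (mul_comm _ _)⟩ hexp _
        (e χ hχ ▸ hD1 χ (Finset.mem_filter.1 hχ).1) e)
  have h1 := mul_sum_lt hp.out.two_le m
  have h2 := W.index_mul_card
  rw [← hWi, hv] at h2
  obtain ⟨q, rfl⟩ : ∃ q, p = q + 1 := ⟨p - 1, (Nat.sub_add_cancel hp.out.pos).symm⟩
  rw [Nat.add_sub_cancel] at hle
  have h3 : 0 < (q + 1) ^ v * q := mul_pos (pow_pos q.succ_pos _) (by have := hp.out.two_le; omega)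
  nlinarith

end H35L
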