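import Mathlib
import Cfsg.Agent.Base
import Cfsg.Agent.Lib.Lin35.Winter
import Cfsg.Agent.Lib.Deg.FS3
import Cfsg.Agent.Lib.Core.Fitting

/-! Irreducible products of Galois conjugate characters. -/

set_option autoImplicit false
set_option linter.style.haveILetI false

namespace H35L
open Cfsg
open scoped ComplexConjugate commutatorElement

variable {G : Type*} [Group G]

theorem sum_conj_mul_hom {K : Type*} [Group K] [Fintype K] (f : K →* G) {ξ : G → ℂ}
    (hξ : IsCharacter G ξ) (hirr : IsIrrCharacter K fun k => ξ (f k)) (y h : G) :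
    ∑ x : K, ξ (f x * y * (f x)⁻¹ * h) = Nat.card K * ξ y * ξ h / ξ 1 := by
  obtain ⟨n, ρ, rfl⟩ := hξ
  haveI : Representation.IsIrreducible (ρ.comp f) :=
    (H6.isIrrCharacter_character_iff (ρ.comp f)).1 hirr
  obtain ⟨ω, hω⟩ := H8.exists_scalar_of_commute (ρ.comp f) (∑ x : K, ρ (f x * y * (f x)⁻¹))
    fun g => by
      rw [Finset.sum_mul, Finset.mul_sum]
      symm
      refine Fintype.sum_equiv (Equiv.mulLeft g) _ _ fun x => ?_
      rw [MonoidHom.comp_apply, ← map_mul, ← map_mul]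
      congr 1
      simp [mul_assoc]
  have key : ∀ h, ∑ x : K, ρ.character (f x * y * (f x)⁻¹ * h) = ω * ρ.character h := fun h => by
    have := congrArg (fun T => LinearMap.trace ℂ _ (T * ρ h)) hω
    simp only [Finset.sum_mul, map_sum, smul_mul_assoc, one_mul, map_smul, smul_eq_mul] at this
    simpa only [Representation.character, map_mul] using this
  have h1 := key 1
  simp only [mul_one, Representation.char_conj, Finset.sum_const, Finset.card_univ,
    nsmul_eq_mul] at h1
  have h2 : ρ.character 1 ≠ 0 := by simpa using H6.irr_one_ne_zero hirr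
  rw [key, Nat.card_eq_fintype_card, h1]
  field_simp

theorem char_eq_zero_of_conj_eq [Finite G] {χ : G → ℂ} (hχ : IsIrrCharacter G χ)
    (hf : ∀ g, χ g = χ 1 → g = 1) {x y z : G} (hz : z ∈ Subgroup.center G) (h1 : z ≠ 1)
    (h : y * x * y⁻¹ = z * x) : χ x = 0 := by
  obtain ⟨ω, hω⟩ := H87.exists_mul_of_mem_center hχ hz
  have h2 := hω x
  rw [← h, H6.char_isClassFunction (H6.irr_isCharacter hχ)] at h2
  by_contra h0
  refine h1 (hf z ?_)
  have := hω 1
  rwa [mul_one, (mul_eq_right₀ h0).1 h2.symm, one_mul] at this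

theorem exists_normal_commutator_le {N Z : Subgroup G} [N.Normal] [Group.IsSolvable N]
    (h : ¬ N ≤ Z) : ∃ A : Subgroup G, A.Normal ∧ A ≤ N ∧ ¬ A ≤ Z ∧ ⁅A, A⁆ ≤ Z := by
  classical
  have hex : ∃ n, (derivedSeries N n).map N.subtype ≤ Z :=
    (Group.IsSolvable.solvable (G := N)).imp fun n hn => by simp [hn]
  obtain ⟨m, hm⟩ : ∃ m, Nat.find hex = m + 1 := Nat.exists_eq_succ_of_ne_zero fun h0 => h (by
    have := Nat.find_spec hex
    rwa [h0, derivedSeries_zero, ← MonoidHom.range_eq_map, Subgroup.range_subtype] at this)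
  refine ⟨(derivedSeries N m).map N.subtype, inferInstance, Subgroup.map_subtype_le _,
    Nat.find_min hex (by omega), ?_⟩
  have := Nat.find_spec hex
  rwa [hm, derivedSeries_succ, Subgroup.map_commutator] at this

theorem le_center_of_irr_mul_pow [Finite G] {χ : G → ℂ} (hχ : IsIrrCharacter G χ)
    (hf : ∀ g, χ g = χ 1 → g = 1) {k : ℕ} (hk : k.Coprime (Nat.card G))
    (hirr : IsIrrCharacter G fun g => χ g * χ (g ^ k)) (N : Subgroup G) [N.Normal]
    [Group.IsSolvable N] : N ≤ Subgroup.center G := by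
  classical
  haveI := Fintype.ofFinite G
  have hχc := H6.irr_isCharacter hχ
  have h0 := H6.irr_one_ne_zero hχ
  obtain ⟨j, hj⟩ : ∃ j : ℕ, ∀ y : G, (y ^ j) ^ k = y⁻¹ := by
    obtain ⟨m, hm⟩ := exists_pow_eq_self_of_coprime (x := fun y : G => y) (n := k)
      (hk.coprime_dvd_right (orderOf_dvd_of_pow_eq_one (funext fun _ => pow_card_eq_one')))
    refine ⟨m * (Nat.card G - 1), fun y => eq_inv_of_mul_eq_one_left ?_⟩
    rw [pow_right_comm, pow_mul, show (y ^ k) ^ m = y from congrFun hm y, ← pow_succ,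
      Nat.sub_add_cancel Nat.card_pos, pow_card_eq_one']
  have key : ∀ x : G, ∑ g, χ (g * x * g⁻¹ * x⁻¹) * χ ((g * x ^ j * g⁻¹ * (x ^ j)⁻¹) ^ k) =
      Nat.card G * (χ x * conj (χ x)) * (χ x * conj (χ x)) / (χ 1 * χ 1) := fun x => by
    have := sum_conj_mul_hom ((MonoidHom.id G).prod (MonoidHom.id G)) (H6.isCharacter_prodMul hχc
      (H6.irr_isCharacter (H8.isIrrCharacter_pow hχ hk))) hirr (x, x ^ j) (x⁻¹, (x ^ j)⁻¹)
    simp only [inv_pow, hj, inv_inv, Prod.fst_one, Prod.snd_one, one_pow, H6.char_inv hχc] at this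
    rw [mul_comm (conj (χ x)) (χ x)] at this
    exact this
  have hab : ∀ x : G, (∀ g, Commute (g * x * g⁻¹) x) → x ∈ Subgroup.center G := fun x hx => by
    have h1 := key x
    have h2 := H87.sum_conj_mul hχ x x⁻¹
    have e : ∀ g, χ ((g * x ^ j * g⁻¹ * (x ^ j)⁻¹) ^ k) = conj (χ (g * x * g⁻¹ * x⁻¹)) := fun g => by
      rw [← conj_pow, ← inv_pow, ← (hx g).inv_right.mul_pow, hj, H6.char_inv hχc]
    simp only [e] at h1
    rw [H6.char_inv hχc, mul_assoc, mul_div_assoc] at h2
    set c := χ x * conj (χ x) / χ 1 with hc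
    have hcc : conj c = c := by
      rw [hc, map_div₀, map_mul, Complex.conj_conj, mul_comm, ← H6.char_inv hχc 1, inv_one]
    have h3 : ∑ g, (χ (g * x * g⁻¹ * x⁻¹) - c) * conj (χ (g * x * g⁻¹ * x⁻¹) - c) = 0 := by
      have h4 := congrArg conj h2
      rw [map_sum, map_mul, hcc, map_natCast] at h4
      simp only [map_sub, hcc, sub_mul, mul_sub, Finset.sum_sub_distrib, ← Finset.sum_mul,
        ← Finset.mul_sum, h1, h2, h4, Finset.sum_const, Finset.card_univ, nsmul_eq_mul,
        ← Nat.card_eq_fintype_card, hc]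
      field_simp
      ring
    simp only [Complex.mul_conj, ← Complex.ofReal_sum, Complex.ofReal_eq_zero] at h3
    rw [Finset.sum_eq_zero_iff_of_nonneg fun _ _ => Complex.normSq_nonneg _] at h3
    have h5 : ∀ g, χ (g * x * g⁻¹ * x⁻¹) = c := fun g =>
      sub_eq_zero.1 (Complex.normSq_eq_zero.1 (h3 g (Finset.mem_univ g)))
    refine Subgroup.mem_center_iff.2 fun g => commutatorElement_eq_one_iff_mul_comm.1 (hf _ ?_)
    rw [commutatorElement_def, h5, ← h5 1]
    simp
  by_contra hN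
  obtain ⟨A, hA, -, hAZ, hAA⟩ := exists_normal_commutator_le hN
  have hv : ∀ x ∈ A, x ∉ Subgroup.center G → χ x = 0 := fun x hx hxZ => by
    obtain ⟨g, hg⟩ := not_forall.1 (mt (hab x) hxZ)
    exact char_eq_zero_of_conj_eq hχ hf (y := g * x * g⁻¹)
      (hAA (Subgroup.commutator_mem_commutator (hA.conj_mem x hx g) hx))
      (mt commutatorElement_eq_one_iff_mul_comm.1 hg) (by rw [commutatorElement_def]; group)
  obtain ⟨x, hx, hxZ⟩ := SetLike.not_le_iff_exists.1 hAZ
  have h1 := key x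
  have e : ∀ g, χ (g * x * g⁻¹ * x⁻¹) * χ ((g * x ^ j * g⁻¹ * (x ^ j)⁻¹) ^ k) =
      Complex.normSq (χ (g * x * g⁻¹ * x⁻¹)) := fun g => by
    by_cases hz : g * x * g⁻¹ * x⁻¹ ∈ Subgroup.center G
    · have : Commute (g * x * g⁻¹) x⁻¹ := by
        have := Subgroup.mem_center_iff.1 hz x⁻¹
        exact mul_right_cancel (b := x⁻¹) (this.symm.trans (mul_assoc _ _ _).symm)
      rw [← conj_pow, ← inv_pow, ← this.mul_pow, hj, H6.char_inv hχc, Complex.mul_conj]
    · simp [hv _ (mul_mem (hA.conj_mem x hx g) (inv_mem hx)) hz]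
  simp only [e, hv x hx hxZ, zero_mul, mul_zero, zero_div, ← Complex.ofReal_sum,
    Complex.ofReal_eq_zero] at h1
  rw [Finset.sum_eq_zero_iff_of_nonneg fun _ _ => Complex.normSq_nonneg _] at h1
  exact h0 (by simpa using h1 1 (Finset.mem_univ 1))

end H35L
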